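import Cfsg.Agent.Lib.TwentyTwo.Graph

/-!
# There is no simple group with 22 Sylow 3-subgroups of order 3

The centralizer of a Sylow 3-subgroup `P` permutes the seven `P`-orbits of length 3; the
normalizer of a Sylow 11-subgroup has order 22, which pins the image down to three cases.
-/

namespace Cfsg.Agent.TwentyTwo

open MulAction

/-- `S₇` has no subgroup of order 35. -/
theorem card_ne_35 (H : Subgroup (Equiv.Perm (Fin 7))) : Nat.card H ≠ 35 := by
  intro h
  haveI : Fact (Nat.Prime 5) := ⟨by norm_num⟩
  haveI : Fact (Nat.Prime 7) := ⟨by norm_num⟩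
  obtain ⟨a, ha⟩ := exists_prime_orderOf_dvd_card' (G := H) 5 (by rw [h]; norm_num)
  obtain ⟨b, hb⟩ := exists_prime_orderOf_dvd_card' (G := H) 7 (by rw [h]; norm_num)
  have key : ∀ (q : ℕ) [Fact q.Prime] (x : H), orderOf x = q → q ∣ 35 →
      (∀ r ∈ Nat.divisors 35, r % q = 1 → r = 1) → (Subgroup.zpowers x).Normal := by
    intro q _ x hx hq hr
    have hp : IsPGroup q (Subgroup.zpowers x) :=
      IsPGroup.of_card (n := 1) (by rw [Nat.card_zpowers, hx, pow_one])
    obtain ⟨S, hS⟩ := hp.exists_le_sylow
    have h1 : Nat.card (Sylow q H) = 1 := by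
      refine hr _ (Nat.mem_divisors.mpr ⟨h ▸ S.card_dvd_index.trans
        (Subgroup.index_dvd_card _), by norm_num⟩) ?_
      have := card_sylow_modEq_one q H
      rwa [Nat.ModEq, Nat.mod_eq_of_lt (Fact.out : q.Prime).one_lt] at this
    haveI := (Nat.card_eq_one_iff_unique.mp h1).1
    have hSn : (S : Subgroup H).Normal := Sylow.normal_of_subsingleton S
    have hcard : Nat.card (S : Subgroup H) ≤ q := by
      obtain ⟨k, hk⟩ := S.2.exists_card_eq
      have hd := Subgroup.card_subgroup_dvd_card (S : Subgroup H)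
      rw [hk, h] at hd
      rw [hk]
      rcases k with _ | _ | k
      · simpa using (Fact.out : q.Prime).one_lt.le
      · simp
      · exfalso
        have h2 : q * q ∣ 35 := (Dvd.intro (q ^ k) (by ring)).trans hd
        have hq' : q ∈ Nat.divisors 35 := Nat.mem_divisors.mpr ⟨hq, by norm_num⟩
        have k35 : ∀ r ∈ Nat.divisors 35, r * r ∣ 35 → r = 1 := by decide
        exact (Fact.out : q.Prime).ne_one (k35 q hq' h2)
    rw [Subgroup.eq_of_le_of_card_ge hS (by rw [Nat.card_zpowers, hx]; exact hcard)]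
    exact hSn
  have ha' := key 5 a ha (by norm_num) (by decide)
  have hb' := key 7 b hb (by norm_num) (by decide)
  have hdis : Disjoint (Subgroup.zpowers a) (Subgroup.zpowers b) :=
    disjoint_iff.mpr <| Coprime.disjoint_of_coprime_card (by rw [Nat.card_zpowers, Nat.card_zpowers, ha, hb]; norm_num)
  have hc : Commute a b := Subgroup.commute_of_normal_of_disjoint _ _ ha' hb' hdis a b
    (Subgroup.mem_zpowers a) (Subgroup.mem_zpowers b)
  have hab : orderOf ((a * b : H) : Equiv.Perm (Fin 7)) = 35 := by
    rw [Subgroup.orderOf_coe, hc.orderOf_mul_eq_mul_orderOf_of_coprime (by rw [ha, hb]; norm_num),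
      ha, hb]
  set σ := ((a * b : H) : Equiv.Perm (Fin 7))
  have hl := σ.lcm_cycleType
  rw [hab] at hl
  have hsum := σ.sum_cycleType_le
  rw [Fintype.card_fin] at hsum
  by_cases h7 : 7 ∈ σ.cycleType
  · obtain ⟨t, ht⟩ := Multiset.exists_cons_of_mem h7
    rw [ht, Multiset.sum_cons] at hsum
    have ht0 : t = 0 := by
      refine Multiset.eq_zero_of_forall_notMem fun x hx => ?_
      have h2 := Equiv.Perm.two_le_of_mem_cycleType (σ := σ) (ht ▸ Multiset.mem_cons_of_mem hx)
      have := Multiset.le_sum_of_mem hx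
      omega
    rw [ht, ht0] at hl
    simp at hl
  · have hd : σ.cycleType.lcm ∣ 60 := by
      refine Multiset.lcm_dvd.mpr fun x hx => ?_
      have h2 := Equiv.Perm.two_le_of_mem_cycleType hx
      have h6 : x ≤ 6 := by
        have := Multiset.le_sum_of_mem hx
        have hne : x ≠ 7 := fun h' => h7 (h' ▸ hx)
        omega
      interval_cases x <;> norm_num
    rw [hl] at hd
    norm_num at hd

/-- `S₇` has no subgroup of order 112. -/
theorem card_ne_112 (H : Subgroup (Equiv.Perm (Fin 7))) : Nat.card H ≠ 112 := by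
  intro h
  classical
  haveI : Fact (Nat.Prime 2) := ⟨Nat.prime_two⟩
  have hG : Nat.card (Equiv.Perm (Fin 7)) = 5040 := by rw [Nat.card_perm, Nat.card_fin]; rfl
  obtain ⟨K, hK⟩ := Sylow.exists_subgroup_card_pow_prime 2 (n := 4) (G := H) (by rw [h]; norm_num)
  set K' := K.map H.subtype with hK'
  have hK'c : Nat.card K' = 2 ^ 4 := by
    rw [hK', Subgroup.card_map_of_injective H.subtype_injective, hK]
  set τ : Equiv.Perm (Fin 7) := Equiv.swap 0 1 with hτ
  have hτp : IsPGroup 2 (Subgroup.zpowers τ) :=
    IsPGroup.of_card (n := 1) (by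
      rw [Nat.card_zpowers, orderOf_eq_prime (p := 2) (by rw [pow_two, Equiv.swap_mul_self])
        (by decide), pow_one])
  obtain ⟨S, hS⟩ := hτp.exists_le_sylow
  obtain ⟨T, hT⟩ := (IsPGroup.of_card hK'c).exists_le_sylow
  have hTK : (T : Subgroup (Equiv.Perm (Fin 7))) = K' := by
    refine (Subgroup.eq_of_le_of_card_ge hT ?_).symm
    obtain ⟨k, hk⟩ := T.2.exists_card_eq
    rw [hk, hK'c]
    refine Nat.pow_le_pow_right (by norm_num) ?_
    by_contra h5
    push Not at h5
    have hd := (pow_dvd_pow 2 h5).trans (hk ▸ Subgroup.card_subgroup_dvd_card _)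
    rw [hG] at hd
    norm_num at hd
  obtain ⟨g, hg⟩ := MulAction.exists_smul_eq (Equiv.Perm (Fin 7)) S T
  have hmem : g * τ * g⁻¹ ∈ H := by
    have : g * τ * g⁻¹ ∈ (T : Subgroup (Equiv.Perm (Fin 7))) := by
      rw [← hg, Sylow.coe_subgroup_smul, Coprime.mem_conj_smul_iff]
      simpa [mul_assoc] using hS (Subgroup.mem_zpowers τ)
    rw [hTK, hK'] at this
    exact Subgroup.map_subtype_le K this
  have hswap : (g * τ * g⁻¹).IsSwap :=
    ⟨g 0, g 1, fun h => absurd (g.injective h) (by decide), by
      rw [hτ, ← Equiv.swap_apply_apply]⟩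
  have := Equiv.Perm.subgroup_eq_top_of_swap_mem (H := H) (by norm_num)
    (by rw [← Nat.card_eq_fintype_card (α := H), h]; norm_num) hmem hswap
  rw [this, Subgroup.card_top, hG] at h
  norm_num at h

variable {G : Type*} [Group G] [Finite G]

/-- Fixed points of an element of prime order. -/
theorem fixed_modEq {α : Type*} [Finite α] [MulAction G α] {q : ℕ} [Fact q.Prime] {y : G}
    (hy : orderOf y = q) : Nat.card α ≡ {z : α | y • z = z}.ncard [MOD q] := by
  have hp : IsPGroup q (Subgroup.zpowers y) :=
    IsPGroup.of_card (n := 1) (by rw [Nat.card_zpowers, hy, pow_one])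
  refine (hp.card_modEq_card_fixedPoints α).trans ?_
  rw [← Nat.card_coe_set_eq]
  refine (congrArg Nat.card (congrArg (fun s : Set α => ↥s) ?_)).symm ▸ Nat.ModEq.refl _
  ext z
  constructor
  · exact fun h => h ⟨y, Subgroup.mem_zpowers y⟩
  · intro h w
    exact (Subgroup.zpowers_le.mpr (show y ∈ stabilizer G z from h)) w.2

omit [Finite G] in
theorem sign_toPerm [IsSimpleGroup G] (hab : ¬ IsMulCommutative G) {α : Type*} [Fintype α]
    [DecidableEq α] [MulAction G α] (g : G) :
    Equiv.Perm.sign (MulAction.toPerm g : Equiv.Perm α) = 1 := by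
  set f : G →* ℤˣ := (Equiv.Perm.sign).comp (MulAction.toPermHom G α) with hf
  rcases (inferInstance : f.ker.Normal).eq_bot_or_eq_top with h | h
  · exfalso
    apply hab
    refine ⟨⟨fun a b => (MonoidHom.ker_eq_bot_iff f).mp h ?_⟩⟩
    rw [map_mul, map_mul, mul_comm]
  · exact MonoidHom.mem_ker.mp (show g ∈ f.ker from h.symm.le (Subgroup.mem_top g))

omit [Finite G] in
/-- An involution cannot move `4k + 2` points. -/
theorem no_odd_involution [IsSimpleGroup G] (hab : ¬ IsMulCommutative G) {α : Type*} [Finite α]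
    [MulAction G α] {g : G} (hg : g ^ 2 = 1)
    (hmov : (Nat.card α - {z : α | g • z = z}.ncard) % 4 = 2) : False := by
  classical
  have := Fintype.ofFinite α
  set σ : Equiv.Perm α := MulAction.toPermHom G α g with hσ
  have hσ2 : σ ^ 2 = 1 := by rw [hσ, ← map_pow, hg, map_one]
  have hsupp : σ.support.card = Nat.card α - {z : α | g • z = z}.ncard := by
    have e : (σ.support : Set α) = {z : α | g • z = z}ᶜ := by
      ext z; simp [hσ]
    rw [← Set.ncard_coe_finset, e, Set.ncard_compl]
  rw [← hsupp] at hmov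
  have hne : σ ≠ 1 := fun h => by rw [h, Equiv.Perm.support_one] at hmov; simp at hmov
  have ho : orderOf σ = 2 := orderOf_eq_prime hσ2 hne
  obtain ⟨n, hn⟩ := Equiv.Perm.cycleType_prime_order (ho.symm ▸ Nat.prime_two : (orderOf σ).Prime)
  have hsum := σ.sum_cycleType
  have hs := Equiv.Perm.sign_of_cycleType σ
  rw [hn, ho, Multiset.sum_replicate, smul_eq_mul] at hsum
  rw [hn, ho, Multiset.sum_replicate, smul_eq_mul, Multiset.card_replicate,
    show Equiv.Perm.sign σ = 1 from sign_toPerm hab g, Odd.neg_one_pow (by rw [Nat.odd_iff]; omega)]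
    at hs
  exact absurd hs (by decide)

omit [Finite G] in
/-- An element normalizing but not centralizing `X` fixes at most one point of a free `X`-orbit. -/
theorem fixed_unique {α : Type*} [MulAction G α] {X : Subgroup G} (hX : (Nat.card X).Prime)
    {y : G} (hyN : y ∈ Subgroup.normalizer (X : Set G))
    (hyC : y ∉ Subgroup.centralizer (X : Set G)) {z w : α} (hz : y • z = z) (hw : y • w = w)
    (horb : w ∈ orbit X z) (hfree : ∀ u : X, u • z = z → u = 1) : w = z := by
  obtain ⟨u, rfl⟩ := horb
  have hconj : y * u * y⁻¹ ∈ X := (Subgroup.mem_normalizer_iff.mp hyN u).mp u.2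
  set v : X := ⟨y * u * y⁻¹, hconj⟩ with hv
  have hvz : v • z = u • z := by
    show (y * (u : G) * y⁻¹) • z = (u : G) • z
    rw [mul_smul, inv_smul_eq_iff.mpr hz.symm, mul_smul]
    exact hw
  have h1 : u⁻¹ * v = 1 := hfree _ (by rw [mul_smul, hvz, inv_smul_smul])
  have h2 : y * u * y⁻¹ = (u : G) := congrArg Subtype.val (inv_mul_eq_one.mp h1).symm
  by_cases hu : u = 1
  · simp [hu]
  exfalso
  apply hyC
  have : Fact (Nat.card X).Prime := ⟨hX⟩
  rw [Subgroup.mem_centralizer_iff]
  intro x hx
  obtain ⟨k, hk⟩ := Subgroup.mem_zpowers_iff.mp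
    (mem_zpowers_of_prime_card (G := X) (g := u) (g' := ⟨x, hx⟩) rfl hu)
  have hc : Commute y (u : G) := mul_inv_eq_iff_eq_mul.mp h2
  have hx' : (u : G) ^ k = x := by simpa using congrArg Subtype.val hk
  rw [← hx']
  exact (hc.zpow_right k).eq.symm

variable [IsSimpleGroup G]

theorem normalizer_not_le_centralizer {p : ℕ} [Fact p.Prime] (P : Sylow p G)
    (h1 : Nat.card P ≠ 1) (hnp : ¬ IsPGroup p G) :
    ¬ Subgroup.normalizer ((P : Subgroup G) : Set G) ≤
      Subgroup.centralizer ((P : Subgroup G) : Set G) := by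
  intro hP
  have hc := MonoidHom.ker_transferSylow_isComplement' P hP
  rcases (inferInstance : (MonoidHom.transferSylow P hP).ker.Normal).eq_bot_or_eq_top with h | h
  · rw [h, Subgroup.isComplement'_bot_left] at hc
    exact hnp fun g => (P.2 ⟨g, hc ▸ Subgroup.mem_top g⟩).imp fun k hk => congrArg Subtype.val hk
  · rw [h, Subgroup.isComplement'_top_left] at hc
    exact h1 (Subgroup.card_eq_one.mpr hc)

omit [Finite G] [IsSimpleGroup G] in
theorem relIndex_centralizer_dvd (H : Subgroup G) [Finite H] [IsCyclic H] :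
    (Subgroup.centralizer (H : Set G)).relIndex (Subgroup.normalizer (H : Set G)) ∣
      Nat.totient (Nat.card H) := by
  have key := Subgroup.card_subgroup_dvd_card H.normalizerMonoidHom.range
  rw [← Subgroup.index_ker, Subgroup.normalizerMonoidHom_ker, IsCyclic.card_mulAut] at key
  exact key

variable (hG : Tight22 G) (h3 : ∀ P : Sylow 3 G, Nat.card P = 3)
include hG h3

theorem card_normalizer_eq (P : Sylow 3 G) :
    Nat.card (Subgroup.normalizer ((P : Subgroup G) : Set G)) =
      2 * Nat.card (Subgroup.centralizer ((P : Subgroup G) : Set G)) := by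
  have : IsCyclic (P : Subgroup G) := isCyclic_of_prime_card (h3 P)
  have hd := relIndex_centralizer_dvd (P : Subgroup G)
  rw [h3 P, Nat.totient_prime Nat.prime_three] at hd
  have hne := normalizer_not_le_centralizer P (by rw [h3 P]; norm_num) (not_isPGroup hG)
  rw [← Subgroup.relIndex_eq_one] at hne
  have h2 : (Subgroup.centralizer ((P : Subgroup G) : Set G)).relIndex
      (Subgroup.normalizer ((P : Subgroup G) : Set G)) = 2 :=
    ((Nat.dvd_prime Nat.prime_two).mp hd).resolve_left hne
  have e := Subgroup.relIndex_mul_relIndex (H := ⊥)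
    (K := Subgroup.centralizer ((P : Subgroup G) : Set G))
    (L := Subgroup.normalizer ((P : Subgroup G) : Set G)) bot_le
    (Subgroup.centralizer_le_normalizer _)
  rw [Subgroup.relIndex_bot_left, Subgroup.relIndex_bot_left, h2] at e
  omega

theorem card_orbit_ne (P R : Sylow 3 G) (hne : R ≠ P) :
    Nat.card (orbit (P : Subgroup G) R) = 3 := by
  rw [card_orbit]
  refine (rel_cases hG P R hne).resolve_right fun h => ?_
  have := inf_card_mul_rel P R
  rw [h, h3 P] at this
  omega

/-- The centralizer of `P` acts on the seven orbits of length 3 with kernel `P`. -/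
theorem exists_perm_subgroup (P : Sylow 3 G) :
    ∃ H : Subgroup (Equiv.Perm (Fin 7)),
      Nat.card (Subgroup.centralizer ((P : Subgroup G) : Set G)) = 3 * Nat.card H := by
  classical
  have := Fintype.ofFinite (Sylow 3 G)
  set C := Subgroup.centralizer ((P : Subgroup G) : Set G) with hC
  let Q := orbitRel.Quotient (P : Subgroup G) (Sylow 3 G)
  have hcomm : ∀ (c : C) (u : (P : Subgroup G)), Commute (c : G) (u : G) := fun c u =>
    (Subgroup.mem_centralizer_iff.mp c.2 u u.2).symm
  letI actQ : MulAction C Q :=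
    { smul := fun c => Quotient.map' (fun x => (c : G) • x) fun a b h => by
        obtain ⟨u, hu⟩ := h
        refine ⟨u, ?_⟩
        show (u : G) • (c : G) • b = (c : G) • a
        rw [← mul_smul, ← (hcomm c u).eq, mul_smul]
        exact congrArg _ hu
      one_smul := fun q => Quotient.inductionOn' q fun x =>
        congrArg Quotient.mk'' (one_smul G x)
      mul_smul := fun c d q => Quotient.inductionOn' q fun x =>
        congrArg Quotient.mk'' (mul_smul (c : G) (d : G) x) }
  have hsmul : ∀ (c : C) (x : Sylow 3 G),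
      c • (Quotient.mk'' x : Q) = Quotient.mk'' ((c : G) • x) := fun _ _ => rfl
  set a : Q := Quotient.mk'' P with ha
  have hfixa : ∀ c : C, c • a = a := fun c => by
    rw [ha, hsmul, Sylow.smul_eq_iff_mem_normalizer.mpr (Subgroup.centralizer_le_normalizer _ c.2)]
  have := Fintype.ofFinite Q
  have hQ : Fintype.card Q = 8 := by
    have e := Nat.card_congr (selfEquivSigmaOrbits (P : Subgroup G) (Sylow 3 G))
    rw [Nat.card_sigma, hG.2, ← Finset.add_sum_erase _ _ (Finset.mem_univ a)] at e
    have hrep : ∀ q : Q, q ≠ a → Nat.card (orbit (P : Subgroup G) q.out) = 3 := by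
      intro q hq
      refine card_orbit_ne hG h3 P q.out fun h => hq ?_
      exact (Quotient.out_eq' q).symm.trans (congrArg Quotient.mk'' h)
    have hPP : a.out = P := by
      obtain ⟨u, hu⟩ := Quotient.exact' (Quotient.out_eq' a)
      rw [← hu]
      exact smul_self_of_mem P u
    rw [hPP, card_orbit, rel_self, Finset.sum_congr rfl fun q hq =>
      hrep q (Finset.ne_of_mem_erase hq), Finset.sum_const, Finset.card_erase_of_mem
      (Finset.mem_univ a), smul_eq_mul, Finset.card_univ] at e
    omega
  have hQ' : Nat.card {q : Q // q ≠ a} = 7 := by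
    rw [Nat.card_eq_fintype_card, Fintype.card_subtype_compl, Fintype.card_subtype_eq, hQ]
  let e7 : {q : Q // q ≠ a} ≃ Fin 7 := Finite.equivFinOfCardEq hQ'
  have hpres : ∀ (c : C) (q : Q), (MulAction.toPermHom C Q c) q ≠ a ↔ q ≠ a := by
    intro c q
    show c • q ≠ a ↔ q ≠ a
    rw [not_iff_not]
    exact ⟨fun h => MulAction.injective c (h.trans (hfixa c).symm), fun h => h.symm ▸ hfixa c⟩
  let g : C →* Equiv.Perm {q : Q // q ≠ a} :=
    { toFun := fun c => (MulAction.toPermHom C Q c).subtypePerm (hpres c)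
      map_one' := Equiv.ext fun x => Subtype.ext (one_smul C x.1)
      map_mul' := fun c d => Equiv.ext fun x => Subtype.ext (mul_smul c d x.1) }
  let f : C →* Equiv.Perm (Fin 7) := (e7.permCongrHom.toMonoidHom).comp g
  refine ⟨f.range, ?_⟩
  have hker : f.ker = (P : Subgroup G).subgroupOf C := by
    ext c
    rw [Subgroup.mem_subgroupOf, MonoidHom.mem_ker]
    constructor
    · intro hc
      have hg : g c = 1 := e7.permCongrHom.injective (hc.trans (map_one _).symm)
      have hq : ∀ q : Q, c • q = q := by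
        intro q
        by_cases h : q = a
        · rw [h]; exact hfixa c
        · exact congrArg Subtype.val (Equiv.ext_iff.mp hg ⟨q, h⟩)
      have hc3 : (c : G) ^ 3 = 1 := by
        refine eq_one_of_fixes hG fun x => ?_
        obtain ⟨u, hu⟩ := Quotient.exact' (hq (Quotient.mk'' x))
        change (u : G) • x = (c : G) • x at hu
        have hu3 : (u : G) ^ 3 = 1 := by
          have := pow_card_eq_one' (G := (P : Subgroup G)) (x := u)
          rw [h3 P] at this
          exact_mod_cast congrArg Subtype.val this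
        have hcu : ((c : G) * (u : G)⁻¹) • x = x := by
          rw [(hcomm c u).inv_right.eq, mul_smul, ← hu, inv_smul_smul]
        have : ((c : G) * (u : G)⁻¹) ^ 3 • x = x :=
          (stabilizer G x).pow_mem hcu 3
        rwa [(hcomm c u).inv_right.mul_pow, inv_pow, hu3, inv_one, mul_one] at this
      have hcp : IsPGroup 3 (Subgroup.zpowers (c : G)) := by
        obtain ⟨j, -, hj⟩ := (Nat.dvd_prime_pow Nat.prime_three (m := 1) (i := orderOf (c : G))).mp
          (by rw [pow_one]; exact orderOf_dvd_of_pow_eq_one hc3)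
        exact IsPGroup.of_card (n := j) (by rw [Nat.card_zpowers, hj])
      exact ((IsPGroup.inf_normalizer_sylow hcp P).le
        ⟨Subgroup.mem_zpowers _, Subgroup.centralizer_le_normalizer _ c.2⟩).2
    · intro hc
      have hg : g c = 1 := by
        ext ⟨q, hq⟩
        induction q using Quotient.inductionOn' with
        | h x => exact Quotient.sound' ⟨⟨c, hc⟩, rfl⟩
      show e7.permCongrHom.toMonoidHom (g c) = 1
      rw [hg, map_one]
  have hidx := Subgroup.index_mul_card f.ker
  rw [Subgroup.index_ker, hker] at hidx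
  have hPC : (P : Subgroup G) ≤ C := by
    intro u hu
    have : IsCyclic (P : Subgroup G) := isCyclic_of_prime_card (h3 P)
    rw [hC, Subgroup.mem_centralizer_iff]
    intro v hv
    exact congrArg Subtype.val
      ((IsCyclic.isMulCommutative (α := (P : Subgroup G))).is_comm.comm
        (⟨v, hv⟩ : (P : Subgroup G)) ⟨u, hu⟩)
  rw [Coprime.card_subgroupOf hPC, h3 P] at hidx
  omega

theorem card_eq (P : Sylow 3 G) : ∃ H : Subgroup (Equiv.Perm (Fin 7)),
    ¬ 3 ∣ Nat.card H ∧ Nat.card G = 132 * Nat.card H := by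
  obtain ⟨H, hH⟩ := exists_perm_subgroup hG h3 P
  have e := Subgroup.index_mul_card (Subgroup.normalizer ((P : Subgroup G) : Set G))
  rw [index_normalizer hG P, card_normalizer_eq hG h3 P, hH] at e
  refine ⟨H, fun hd => ?_, by omega⟩
  have hnd := P.not_dvd_index
  have e2 := Subgroup.card_mul_index (P : Subgroup G)
  have e3 : Nat.card (P : Subgroup G) = 3 := h3 P
  rw [e3] at e2
  obtain ⟨t, ht⟩ := hd
  exact hnd ⟨44 * t, by omega⟩

theorem not_card_eq_three : False := by
  classical
  have hne : Nonempty (Sylow 3 G) := inferInstance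
  obtain ⟨P₀⟩ := hne
  obtain ⟨H, hm3, hGcard⟩ := card_eq hG h3 P₀
  set m := Nat.card H with hm
  have hm7 : m ∣ 5040 := by
    have := Subgroup.card_subgroup_dvd_card H
    rwa [Nat.card_perm, Nat.card_fin] at this
  have hm11 : ¬ 11 ∣ m := fun h => absurd (h.trans hm7) (by norm_num)
  have hNcard : ∀ R : Sylow 3 G,
      Nat.card (Subgroup.normalizer ((R : Subgroup G) : Set G)) = 6 * m := fun R => by
    have e := Subgroup.index_mul_card (Subgroup.normalizer ((R : Subgroup G) : Set G))
    rw [index_normalizer hG R, hGcard] at e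
    omega
  haveI : Fact (Nat.Prime 11) := ⟨by norm_num⟩
  obtain ⟨X⟩ : Nonempty (Sylow 11 G) := inferInstance
  have hX : Nat.card X = 11 := by
    obtain ⟨k, hk⟩ := X.2.exists_card_eq
    have e := Subgroup.card_mul_index (X : Subgroup G)
    rw [hk, hGcard] at e
    rcases k with _ | _ | k
    · exfalso
      apply X.not_dvd_index
      simp only [pow_zero, one_mul] at e
      exact ⟨12 * m, by rw [e]; ring⟩
    · simpa using hk
    · exfalso
      apply hm11
      have h121 : 121 ∣ 132 * m := ⟨11 ^ k * (X : Subgroup G).index, by rw [← e]; ring⟩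
      omega
  have hXp : (Nat.card (X : Subgroup G)).Prime := by rw [hX]; norm_num
  -- `X` acts freely on the Sylow 3-subgroups
  have hfree : ∀ (z : Sylow 3 G) (u : (X : Subgroup G)), u • z = z → u = 1 := by
    intro z u hu
    have hmem : (u : G) ∈ Subgroup.normalizer ((z : Subgroup G) : Set G) :=
      Sylow.smul_eq_iff_mem_normalizer.mp hu
    have hd1 := Subgroup.orderOf_dvd_natCard _ hmem
    rw [hNcard z, Subgroup.orderOf_coe] at hd1
    have hd2 : orderOf u ∣ 11 := (orderOf_dvd_natCard u).trans (dvd_of_eq hX)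
    refine orderOf_eq_one_iff.mp (((Nat.dvd_prime (by norm_num)).mp hd2).resolve_right fun h => ?_)
    rw [h] at hd1
    exact hm11 ((Nat.Coprime.dvd_mul_left (by norm_num)).mp hd1)
  have horb : ∀ z : Sylow 3 G, (orbit (X : Subgroup G) z).ncard = 11 := by
    intro z
    rw [← index_stabilizer, show stabilizer (X : Subgroup G) z = ⊥ from
      (Subgroup.eq_bot_iff_forall _).mpr fun u hu => hfree z u hu, Subgroup.index_bot, hX]
  have hcover : ∀ z w v : Sylow 3 G, w ∉ orbit (X : Subgroup G) z →
      v ∉ orbit (X : Subgroup G) z → v ∈ orbit (X : Subgroup G) w := by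
    intro z w v hw hv
    have hd : Disjoint (orbit (X : Subgroup G) z) (orbit (X : Subgroup G) w) := by
      rw [Set.disjoint_left]
      intro t ht ht'
      apply hw
      rw [← orbit_eq_iff.mpr ht, orbit_eq_iff.mpr ht']
      exact mem_orbit_self w
    have hu : orbit (X : Subgroup G) z ∪ orbit (X : Subgroup G) w = Set.univ := by
      refine Set.eq_of_subset_of_ncard_le (Set.subset_univ _) ?_
      rw [Set.ncard_union_eq hd, horb, horb, Set.ncard_univ, hG.2]
    exact ((Set.eq_univ_iff_forall.mp hu v).resolve_left hv)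
  -- the centralizer of `X` is `X`
  have hCX : Subgroup.centralizer ((X : Subgroup G) : Set G) = (X : Subgroup G) := by
    have hXC : (X : Subgroup G) ≤ Subgroup.centralizer ((X : Subgroup G) : Set G) := by
      intro u hu
      have : IsCyclic (X : Subgroup G) := isCyclic_of_prime_card hX
      rw [Subgroup.mem_centralizer_iff]
      intro v hv
      exact congrArg Subtype.val
        ((IsCyclic.isMulCommutative (α := (X : Subgroup G))).is_comm.comm
          (⟨v, hv⟩ : (X : Subgroup G)) ⟨u, hu⟩)
    refine (Subgroup.eq_of_le_of_card_ge hXC ?_).symm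
    by_contra hgt
    push Not at hgt
    have hd := Subgroup.card_dvd_of_le hXC
    obtain ⟨k, hk⟩ := hd
    rw [hX] at hk hgt
    have hk1 : k ≠ 1 := by omega
    obtain ⟨q, hq, hqk⟩ := Nat.exists_prime_and_dvd hk1
    haveI : Fact q.Prime := ⟨hq⟩
    obtain ⟨⟨y, hyC⟩, hy⟩ := exists_prime_orderOf_dvd_card'
      (G := Subgroup.centralizer ((X : Subgroup G) : Set G)) q (by rw [hk]; exact dvd_mul_of_dvd_right hqk _)
    rw [Subgroup.orderOf_mk] at hy
    have hq11 : q ≠ 11 := by
      rintro rfl
      obtain ⟨t, rfl⟩ := hqk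
      have h1 := Subgroup.card_subgroup_dvd_card (Subgroup.centralizer ((X : Subgroup G) : Set G))
      rw [hk, hGcard] at h1
      apply hm11
      have : 121 ∣ 132 * m := (Dvd.intro t (by ring)).trans h1
      omega
    by_cases hfix : ∃ z : Sylow 3 G, y • z = z
    · obtain ⟨z, hz⟩ := hfix
      have hcm : ∀ u : (X : Subgroup G), Commute y (u : G) := fun u =>
        (Subgroup.mem_centralizer_iff.mp hyC u u.2).symm
      have hfixO : ∀ v ∈ orbit (X : Subgroup G) z, y • v = v := by
        rintro _ ⟨u, rfl⟩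
        show y • (u : G) • z = (u : G) • z
        rw [← mul_smul, (hcm u).eq, mul_smul, hz]
      apply hq.ne_one
      rw [← hy, orderOf_eq_one_iff]
      refine eq_one_of_fixes hG fun w => ?_
      by_cases hw : w ∈ orbit (X : Subgroup G) z
      · exact hfixO w hw
      have hyw : y • w ∉ orbit (X : Subgroup G) z := fun h => by
        have e : y • w = w := MulAction.injective y (hfixO _ h)
        rw [e] at h
        exact hw h
      obtain ⟨u, hu⟩ := hcover z w _ hw hyw
      change (u : G) • w = y • w at hu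
      have h1 : (y * (u : G)⁻¹) • w = w := by
        rw [(hcm u).inv_right.eq, mul_smul, ← hu, inv_smul_smul]
      have h2 : (y * (u : G)⁻¹) ^ q • w = w :=
        (show y * (u : G)⁻¹ ∈ stabilizer G w from h1) |> fun h => (stabilizer G w).pow_mem h q
      rw [(hcm u).inv_right.mul_pow, ← hy, pow_orderOf_eq_one, one_mul, hy] at h2
      have h4 : ((u⁻¹) ^ q : (X : Subgroup G)) = 1 := hfree w _ (by
        show (((u⁻¹) ^ q : (X : Subgroup G)) : G) • w = w
        rw [Subgroup.coe_pow, Subgroup.coe_inv]; exact h2)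
      have h5 : orderOf u⁻¹ ∣ Nat.gcd q 11 :=
        Nat.dvd_gcd (orderOf_dvd_of_pow_eq_one h4) ((orderOf_dvd_natCard _).trans (dvd_of_eq hX))
      rw [Nat.Coprime.gcd_eq_one ((Nat.coprime_primes hq (by norm_num)).mpr hq11),
        Nat.dvd_one, orderOf_eq_one_iff, inv_eq_one] at h5
      rw [← hu, h5]
      exact one_smul _ w
    · push Not at hfix
      have hemp : {z : Sylow 3 G | y • z = z} = ∅ := Set.eq_empty_iff_forall_notMem.mpr hfix
      have h22 := fixed_modEq (α := Sylow 3 G) hy
      rw [hG.2, hemp, Set.ncard_empty, Nat.modEq_zero_iff_dvd] at h22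
      have hq2 : q = 2 := by
        have hd := (hq.dvd_mul (m := 2) (n := 11)).mp h22
        rcases hd with hd | hd
        · exact (Nat.prime_dvd_prime_iff_eq hq Nat.prime_two).mp hd
        · exact absurd ((Nat.prime_dvd_prime_iff_eq hq (by norm_num)).mp hd) hq11
      refine no_odd_involution hG.1 (α := Sylow 3 G) (g := y)
        (by rw [← hq2, ← hy, pow_orderOf_eq_one]) ?_
      rw [hemp, Set.ncard_empty, hG.2]
  -- the normalizer of `X` has order 22
  set N := Subgroup.normalizer ((X : Subgroup G) : Set G) with hN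
  have : IsCyclic (X : Subgroup G) := isCyclic_of_prime_card hX
  have hrd := relIndex_centralizer_dvd (X : Subgroup G)
  rw [hX, Nat.totient_prime (by norm_num), hCX] at hrd
  have hXnp : ¬ IsPGroup 11 G := by
    intro h
    obtain ⟨k, hk⟩ := h.exists_card_eq
    rw [hGcard] at hk
    have h2 : 2 ∣ 11 ^ k := ⟨66 * m, by omega⟩
    exact absurd (Nat.prime_two.dvd_of_dvd_pow h2) (by norm_num)
  have hr1 := normalizer_not_le_centralizer X (by rw [hX]; norm_num) hXnp
  rw [hCX, ← Subgroup.relIndex_eq_one] at hr1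
  have hNe : Nat.card N = 11 * (X : Subgroup G).relIndex N := by
    have e := Subgroup.relIndex_mul_relIndex (H := ⊥) (K := (X : Subgroup G)) (L := N) bot_le
      Subgroup.le_normalizer
    rw [Subgroup.relIndex_bot_left, Subgroup.relIndex_bot_left, hX] at e
    omega
  have hno5 : ¬ 5 ∣ Nat.card N := by
    intro h5
    haveI : Fact (Nat.Prime 5) := ⟨by norm_num⟩
    obtain ⟨⟨y, hyN⟩, hy⟩ := exists_prime_orderOf_dvd_card' (G := N) 5 h5
    rw [Subgroup.orderOf_mk] at hy
    have hyC : y ∉ Subgroup.centralizer ((X : Subgroup G) : Set G) := by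
      rw [hCX]
      intro hyX
      have := Subgroup.orderOf_dvd_natCard _ hyX
      rw [hy, hX] at this
      norm_num at this
    set S := {z : Sylow 3 G | y • z = z} with hS
    have hle : S.ncard ≤ 2 := by
      by_contra hgt
      push Not at hgt
      obtain ⟨a, ha, b, hb, c, hc, hab, hac, hbc⟩ :=
        (Set.two_lt_ncard).mp hgt
      have hb' : b ∉ orbit (X : Subgroup G) a := fun h =>
        hab (fixed_unique hXp hyN hyC ha hb h (hfree a)).symm
      have hc' : c ∉ orbit (X : Subgroup G) a := fun h =>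
        hac (fixed_unique hXp hyN hyC ha hc h (hfree a)).symm
      exact hbc (fixed_unique hXp hyN hyC hb hc (hcover a b c hb' hc') (hfree b)).symm
    have h22 := fixed_modEq (α := Sylow 3 G) hy
    rw [hG.2] at h22
    change 22 % 5 = S.ncard % 5 at h22
    have hS2 : S.ncard = 2 := by omega
    obtain ⟨R, hR⟩ := (Set.nonempty_of_ncard_ne_zero (by omega) : S.Nonempty)
    have hyNR : y ∈ Subgroup.normalizer ((R : Subgroup G) : Set G) :=
      Sylow.smul_eq_iff_mem_normalizer.mp hR
    have : IsCyclic (R : Subgroup G) := isCyclic_of_prime_card (h3 R)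
    have hyCR : y ∈ Subgroup.centralizer ((R : Subgroup G) : Set G) := by
      set f := (R : Subgroup G).normalizerMonoidHom with hf
      have ho : orderOf (f ⟨y, hyNR⟩) ∣ Nat.gcd 5 2 := by
        refine Nat.dvd_gcd ((orderOf_map_dvd f _).trans (by rw [Subgroup.orderOf_mk, hy])) ?_
        refine (orderOf_dvd_natCard _).trans ?_
        rw [IsCyclic.card_mulAut, h3 R, Nat.totient_prime Nat.prime_three]
      rw [show Nat.gcd 5 2 = 1 from rfl, Nat.dvd_one, orderOf_eq_one_iff, ← MonoidHom.mem_ker,
        hf, Subgroup.normalizerMonoidHom_ker] at ho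
      exact ho
    obtain ⟨z, hz, hzR⟩ := Set.exists_ne_of_one_lt_ncard (by omega : 1 < S.ncard) R
    have hsub : insert R (orbit (R : Subgroup G) z) ⊆ S := by
      rintro v (rfl | ⟨u, rfl⟩)
      · exact hR
      · show y • (u : G) • z = (u : G) • z
        rw [← mul_smul, ← Subgroup.mem_centralizer_iff.mp hyCR u u.2, mul_smul, hz]
    have h4 := Set.ncard_le_ncard hsub
    rw [Set.ncard_insert_of_notMem (fun h => ?_), ← Nat.card_coe_set_eq,
      card_orbit_ne hG h3 R z hzR] at h4
    · omega
    obtain ⟨u, hu⟩ := h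
    exact hzR (MulAction.injective (u : G) (hu.trans (smul_self_of_mem R u).symm))
  have hNX : Nat.card N = 22 := by
    have hr : (X : Subgroup G).relIndex N = 2 := by
      have hmem := Nat.mem_divisors.mpr ⟨hrd, by norm_num⟩
      have key : ∀ r ∈ Nat.divisors (11 - 1), r ≠ 1 → ¬ 5 ∣ r → r = 2 := by decide
      exact key _ hmem hr1 fun h => hno5 (hNe ▸ dvd_mul_of_dvd_right h _)
    rw [hNe, hr]
  have hn11 : Nat.card (Sylow 11 G) = 6 * m := by
    rw [X.card_eq_index_normalizer]
    have e := Subgroup.index_mul_card N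
    rw [hNX, hGcard] at e
    show N.index = 6 * m
    omega
  have hmod := card_sylow_modEq_one 11 G
  rw [hn11] at hmod
  change 6 * m % 11 = 1 % 11 at hmod
  have hm560 : m ∣ 560 :=
    ((Nat.coprime_comm.mp ((Nat.prime_three.coprime_iff_not_dvd).mpr hm3)).pow_right 2).dvd_of_dvd_mul_right
      (show m ∣ 560 * 3 ^ 2 by norm_num; exact hm7)
  have hcases : m = 2 ∨ m = 35 ∨ m = 112 := by
    have key : ∀ r ∈ Nat.divisors 560, 6 * r % 11 = 1 % 11 → r = 2 ∨ r = 35 ∨ r = 112 := by
      decide
    exact key m (Nat.mem_divisors.mpr ⟨hm560, by norm_num⟩) hmod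
  rcases hcases with h | h | h
  · -- twelve Sylow 11-subgroups
    haveI : Fact (Nat.Prime 2) := ⟨Nat.prime_two⟩
    obtain ⟨⟨t, htN⟩, ht⟩ := exists_prime_orderOf_dvd_card' (G := N) 2 (by rw [hNX]; norm_num)
    rw [Subgroup.orderOf_mk] at ht
    have htC : t ∉ Subgroup.centralizer ((X : Subgroup G) : Set G) := by
      rw [hCX]
      intro htX
      have := Subgroup.orderOf_dvd_natCard _ htX
      rw [ht, hX] at this
      norm_num at this
    have hfreeY : ∀ Y : Sylow 11 G, Y ≠ X → ∀ u : (X : Subgroup G), u • Y = Y → u = 1 := by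
      intro Y hY u hu
      by_contra hu1
      have huY : (u : G) ∈ (Y : Subgroup G) :=
        ((IsPGroup.inf_normalizer_sylow X.2 Y).le
          ⟨u.2, Sylow.smul_eq_iff_mem_normalizer.mp hu⟩).2
      apply hY
      refine Sylow.ext (X.3 Y.2 fun v hv => ?_)
      haveI : Fact (Nat.card (X : Subgroup G)).Prime := ⟨hXp⟩
      obtain ⟨k, hk⟩ := Subgroup.mem_zpowers_iff.mp
        (mem_zpowers_of_prime_card (G := (X : Subgroup G)) (g := u) (g' := ⟨v, hv⟩) rfl hu1)
      have : (u : G) ^ k = v := by simpa using congrArg Subtype.val hk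
      rw [← this]
      exact zpow_mem huY k
    set S := {Y : Sylow 11 G | t • Y = Y} with hS
    have hXS : X ∈ S := Sylow.smul_eq_iff_mem_normalizer.mpr htN
    have hle : S.ncard ≤ 2 := by
      by_contra hgt
      push Not at hgt
      obtain ⟨b, hb, hbX⟩ := Set.exists_ne_of_one_lt_ncard (by omega : 1 < S.ncard) X
      have hsub : S ⊆ {X, b} := by
        intro c hc
        by_cases hcX : c = X
        · exact Or.inl hcX
        refine Or.inr (fixed_unique hXp htN htC hb hc ?_ (hfreeY b hbX))
        have hoX : X ∉ orbit (X : Subgroup G) b := by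
          rintro ⟨u, hu⟩
          exact hbX (MulAction.injective (u : G) (hu.trans
            (Sylow.smul_eq_iff_mem_normalizer.mpr (Subgroup.le_normalizer u.2)).symm))
        have hall : orbit (X : Subgroup G) b = {X}ᶜ := by
          refine Set.eq_of_subset_of_ncard_le (fun v hv hvX => hoX (hvX ▸ hv)) ?_
          rw [Set.ncard_compl, Set.ncard_singleton, hn11, h, ← index_stabilizer,
            show stabilizer (X : Subgroup G) b = ⊥ from
              (Subgroup.eq_bot_iff_forall _).mpr fun u hu => hfreeY b hbX u hu,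
            Subgroup.index_bot, hX]
        rw [hall]
        exact hcX
      have := Set.ncard_le_ncard hsub
      rw [Set.ncard_pair hbX.symm] at this
      omega
    have hmod2 := fixed_modEq (α := Sylow 11 G) ht
    rw [hn11, h] at hmod2
    change 6 * 2 % 2 = S.ncard % 2 at hmod2
    have hpos : 0 < S.ncard := (Set.ncard_pos).mpr ⟨X, hXS⟩
    refine no_odd_involution hG.1 (α := Sylow 11 G) (g := t)
      (by rw [← ht, pow_orderOf_eq_one]) ?_
    show (Nat.card (Sylow 11 G) - S.ncard) % 4 = 2
    omega
  · exact card_ne_35 H (hm ▸ h)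
  · exact card_ne_112 H (hm ▸ h)

end Cfsg.Agent.TwentyTwo
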