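import Cfsg.Agent.Lib.SylowCount.Basic
import Cfsg.Agent.Lib.PGroup.Basic
import Cfsg.Agent.Lib.Coprime.Basic
import Cfsg.Agent.S4343

/-!
# A simple group with 22 Sylow 3-subgroups has Sylow 3-subgroups of order 3

The 22 Sylow subgroups carry the graph `R ~ P :↔ [P : P ∩ R] = 9`; counting common neighbours
shows that it is empty.
-/

namespace Cfsg.Agent.TwentyTwo

open scoped Pointwise commutatorElement
open MulAction

variable {G : Type*} [Group G] [Finite G]

/-- `[P : P ∩ R]`. -/
noncomputable def rel (P R : Sylow 3 G) : ℕ := (R : Subgroup G).relIndex (P : Subgroup G)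

instance factThree : Fact (Nat.Prime 3) := ⟨Nat.prime_three⟩

theorem card_sylow (P R : Sylow 3 G) : Nat.card P = Nat.card R := by
  rw [P.card_eq_multiplicity, R.card_eq_multiplicity]

theorem rel_self (P : Sylow 3 G) : rel P P = 1 := Subgroup.relIndex_self _

theorem inf_card_mul_rel (P R : Sylow 3 G) :
    Nat.card ↥((P : Subgroup G) ⊓ R) * rel P R = Nat.card P := by
  have h := Subgroup.relIndex_mul_relIndex (H := ⊥) (K := (P : Subgroup G) ⊓ R)
    (L := (P : Subgroup G)) bot_le inf_le_left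
  rw [Subgroup.relIndex_bot_left, Subgroup.relIndex_bot_left, Subgroup.inf_relIndex_left] at h
  exact h

theorem rel_comm (P R : Sylow 3 G) : rel P R = rel R P := by
  have h1 := inf_card_mul_rel P R
  have h2 := inf_card_mul_rel R P
  rw [inf_comm, card_sylow R P] at h2
  exact Nat.eq_of_mul_eq_mul_left Nat.card_pos (h1.trans h2.symm)

theorem coe_smul_inf (g : G) (P R : Sylow 3 G) :
    ((g • P : Sylow 3 G) : Subgroup G) ⊓ (g • R : Sylow 3 G) =
      MulAut.conj g • ((P : Subgroup G) ⊓ R) := by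
  rw [Sylow.coe_subgroup_smul, Sylow.coe_subgroup_smul, Subgroup.smul_inf]

theorem rel_smul (g : G) (P R : Sylow 3 G) : rel (g • P) (g • R) = rel P R := by
  have h1 := inf_card_mul_rel P R
  have h2 := inf_card_mul_rel (g • P) (g • R)
  rw [coe_smul_inf, Coprime.card_conj_smul, card_sylow (g • P) P] at h2
  exact Nat.eq_of_mul_eq_mul_left Nat.card_pos (h2.trans h1.symm)

theorem stabilizer_sub (H : Subgroup G) (hH : IsPGroup 3 H) (R : Sylow 3 G) :
    stabilizer H R = (R : Subgroup G).subgroupOf H := by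
  ext u
  rw [mem_stabilizer_iff, Subgroup.mem_subgroupOf]
  show (u : G) • R = R ↔ _
  rw [Sylow.smul_eq_iff_mem_normalizer]
  exact ⟨fun h => ((IsPGroup.inf_normalizer_sylow hH R).le ⟨u.2, h⟩).2,
    fun h => Subgroup.le_normalizer h⟩

theorem card_orbit (P R : Sylow 3 G) : Nat.card (orbit (P : Subgroup G) R) = rel P R := by
  rw [Nat.card_coe_set_eq, ← index_stabilizer, stabilizer_sub _ P.2]
  rfl

theorem rel_pow (P R : Sylow 3 G) : ∃ j, rel P R = 3 ^ j :=
  P.2.index ((R : Subgroup G).subgroupOf P)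

theorem rel_eq_one_iff (P R : Sylow 3 G) : rel P R = 1 ↔ R = P := by
  refine ⟨fun h => ?_, fun h => h ▸ rel_self P⟩
  rw [rel, Subgroup.relIndex_eq_one] at h
  exact Sylow.ext (P.3 R.2 h)

/-- An invariant finite set all of whose orbits have cardinality divisible by `d`. -/
theorem dvd_card {H β : Type*} [Group H] [MulAction H β] [DecidableEq β] [Finite β] (A : Finset β)
    (d : ℕ) (hinv : ∀ h : H, ∀ x ∈ A, h • x ∈ A)
    (hd : ∀ x ∈ A, d ∣ Nat.card (orbit H x)) : d ∣ A.card := by
  classical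
  have := Fintype.ofFinite β
  rw [Finset.card_eq_sum_card_image (fun x => (orbit H x).toFinset) A]
  refine Finset.dvd_sum fun o ho => ?_
  obtain ⟨x, hx, rfl⟩ := Finset.mem_image.mp ho
  have e : (A.filter fun y => (orbit H y).toFinset = (orbit H x).toFinset) =
      (orbit H x).toFinset := by
    ext y
    rw [Finset.mem_filter]
    constructor
    · rintro ⟨-, hy⟩
      exact hy ▸ Set.mem_toFinset.mpr (mem_orbit_self y)
    · intro hy
      rw [Set.mem_toFinset] at hy
      obtain ⟨h, rfl⟩ := hy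
      refine ⟨hinv h x hx, ?_⟩
      simp only [orbit_eq_iff.mpr (mem_orbit x h)]
  rw [e, Set.toFinset_card, ← Nat.card_eq_fintype_card]
  exact hd x hx

variable [IsSimpleGroup G]

/-- The standing hypotheses. -/
def Tight22 (G : Type*) [Group G] : Prop := ¬ IsMulCommutative G ∧ Nat.card (Sylow 3 G) = 22

theorem not_isPGroup (hG : Tight22 G) : ¬ IsPGroup 3 G := by
  intro h
  apply hG.1
  have := h.center_nontrivial
  have hc : Subgroup.center G = ⊤ := (inferInstance : (Subgroup.center G).Normal).eq_bot_or_eq_top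
    |>.resolve_left ((Subgroup.nontrivial_iff_ne_bot _).mp this)
  exact ⟨⟨fun a b => Subgroup.mem_center_iff.mp (hc.symm.le (Subgroup.mem_top b)) a⟩⟩

theorem eq_bot_of_normal (hG : Tight22 G) {D : Subgroup G} (hD : D.Normal) (hp : IsPGroup 3 D) :
    D = ⊥ := by
  refine hD.eq_bot_or_eq_top.resolve_right fun h => not_isPGroup hG ?_
  subst h
  exact fun g => (hp ⟨g, trivial⟩).imp fun k hk => congrArg Subtype.val hk

/-- `G` acts faithfully on its Sylow 3-subgroups. -/
theorem eq_one_of_fixes (hG : Tight22 G) {y : G} (h : ∀ R : Sylow 3 G, y • R = R) : y = 1 := by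
  set K := (toPermHom G (Sylow 3 G)).ker with hK
  have hy : y ∈ K := by
    rw [hK, MonoidHom.mem_ker]
    exact Equiv.ext fun R => h R
  rcases (inferInstance : K.Normal).eq_bot_or_eq_top with hb | ht
  · rwa [hb, Subgroup.mem_bot] at hy
  · exfalso
    have : Subsingleton (Sylow 3 G) := by
      refine ⟨fun P R => ?_⟩
      obtain ⟨g, hg⟩ := MulAction.exists_smul_eq G P R
      have hgK : g ∈ K := ht ▸ Subgroup.mem_top g
      rw [hK, MonoidHom.mem_ker] at hgK
      rw [← hg]
      exact (Equiv.ext_iff.mp hgK P).symm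
    have h1 := Finite.card_le_one_iff_subsingleton.mpr this
    have := hG.2
    omega

omit [IsSimpleGroup G] in
theorem index_normalizer (hG : Tight22 G) (P : Sylow 3 G) :
    (Subgroup.normalizer ((P : Subgroup G) : Set G)).index = 22 := by
  rw [← hG.2, P.card_eq_index_normalizer]
  rfl

/-- The normalizer of a Sylow 3-subgroup is maximal. -/
theorem eq_top_of_normalizer_le (hG : Tight22 G) {H : Subgroup G} (P R : Sylow 3 G) (hne : R ≠ P)
    (hN : Subgroup.normalizer ((P : Subgroup G) : Set G) ≤ H) (hR : (R : Subgroup G) ≤ H) :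
    H = ⊤ := by
  have hP : (P : Subgroup G) ≤ H := Subgroup.le_normalizer.trans hN
  have h1 := Subgroup.relIndex_mul_index hN
  rw [index_normalizer hG P] at h1
  have h2 : Nat.card (Sylow 3 H) = (Subgroup.normalizer ((P : Subgroup G) : Set G)).relIndex H := by
    rw [(P.subtype hP).card_eq_index_normalizer]
    show (Subgroup.normalizer ((((P : Subgroup G).subgroupOf H) : Subgroup H) : Set H)).index = _
    rw [← Subgroup.subgroupOf_normalizer_eq hP]
    rfl
  have h3 : Nat.card (Sylow 3 H) ≠ 1 := by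
    intro h
    have := (Nat.card_eq_one_iff_unique.mp h).1
    exact hne (Sylow.subtype_injective (Subsingleton.elim (R.subtype hR) (P.subtype hP)))
  have h4 := card_sylow_modEq_one 3 H
  rw [h2] at h3 h4
  have hd : (Subgroup.normalizer ((P : Subgroup G) : Set G)).relIndex H ∈ Nat.divisors 22 :=
    Nat.mem_divisors.mpr ⟨Dvd.intro _ h1, by norm_num⟩
  have hkey : ∀ m ∈ Nat.divisors 22, m % 3 = 1 → m ≠ 1 → m = 22 := by decide
  have h5 := hkey _ hd h4 h3
  rw [h5] at h1
  exact Subgroup.index_eq_one.mp (by omega)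

/-- If `[P : P ∩ R] = 3` and `N(P)` normalizes `P ∩ R`, then `|P| = 3`. -/
theorem card_eq_three_of_normalized (hG : Tight22 G) {P R : Sylow 3 G} (h : rel P R = 3)
    (hN : Subgroup.normalizer ((P : Subgroup G) : Set G) ≤
      Subgroup.normalizer (((P : Subgroup G) ⊓ R : Subgroup G) : Set G)) :
    Nat.card P = 3 := by
  have hne : R ≠ P := fun he => by rw [he, rel_self] at h; omega
  have hR : (R : Subgroup G) ≤
      Subgroup.normalizer (((P : Subgroup G) ⊓ R : Subgroup G) : Set G) := by
    have hn : (((P : Subgroup G) ⊓ R).subgroupOf R).Normal := by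
      refine PGroup.normal_of_index_eq R.2 ?_
      show ((P : Subgroup G) ⊓ R).relIndex R = 3
      rw [Subgroup.inf_relIndex_right]
      exact (rel_comm R P).trans h
    exact (Subgroup.normal_subgroupOf_iff_le_normalizer inf_le_right).mp hn
  have htop := eq_top_of_normalizer_le hG P R hne hN hR
  have hD := eq_bot_of_normal hG (Subgroup.normalizer_eq_top_iff.mp htop) (P.2.to_le inf_le_left)
  have := inf_card_mul_rel P R
  rw [hD, Subgroup.card_bot, h, one_mul] at this
  exact this.symm

/-- If all `[P : P ∩ R]` are at most 3 then `|P| = 3`. -/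
theorem card_eq_three_of_all (hG : Tight22 G)
    (hall : ∀ P R : Sylow 3 G, R ≠ P → rel P R = 3) (P : Sylow 3 G) : Nat.card P = 3 := by
  set K : Subgroup G := ⨅ Q : Sylow 3 G, (Q : Subgroup G) with hK
  have hKn : K.Normal := ⟨fun x hx g => by
    simp only [hK, Subgroup.mem_iInf] at hx ⊢
    intro Q
    have := hx (g⁻¹ • Q)
    rw [Sylow.coe_subgroup_smul, Subgroup.mem_pointwise_smul_iff_inv_smul_mem] at this
    simpa [MulAut.smul_def, mul_assoc] using this⟩
  have hKb : K = ⊥ := eq_bot_of_normal hG hKn (P.2.to_le (iInf_le _ P))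
  have hab : ∀ P : Sylow 3 G, IsMulCommutative P := by
    intro P
    refine ⟨⟨fun a b => ?_⟩⟩
    rw [← commutatorElement_eq_one_iff_mul_comm]
    apply Subtype.ext
    have : ((⁅a, b⁆ : P) : G) ∈ K := by
      simp only [hK, Subgroup.mem_iInf]
      intro Q
      rcases eq_or_ne Q P with rfl | hne
      · exact (⁅a, b⁆ : Q).2
      have hi : ((Q : Subgroup G).subgroupOf P).index = 3 := hall P Q hne
      have hn := PGroup.normal_of_index_eq P.2 hi
      exact Subgroup.mem_subgroupOf.mp (PGroup.commutator_le_of_index_eq _ hi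
        (Subgroup.commutator_mem_commutator (Subgroup.mem_top a) (Subgroup.mem_top b)))
    rw [hKb, Subgroup.mem_bot] at this
    exact this
  obtain ⟨Q, hQ⟩ := S4343.brodkey hab P
  have hPQ : (P : Subgroup G) ⊓ Q = ⊥ := le_bot_iff.mp (hKb ▸ le_iInf hQ)
  have h := inf_card_mul_rel P Q
  rw [hPQ, Subgroup.card_bot, one_mul] at h
  rcases eq_or_ne Q P with rfl | hne
  · exfalso
    rw [rel_self] at h
    have hP : (Q : Subgroup G) = ⊥ := Subgroup.card_eq_one.mp h.symm
    have hs : Nat.card (Sylow 3 G) = 1 := by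
      rw [Q.card_eq_index_normalizer]
      show (Subgroup.normalizer ((Q : Subgroup G) : Set G)).index = 1
      rw [hP, Subgroup.normalizer_eq_top, Subgroup.index_top]
    rw [hG.2] at hs
    omega
  · rw [← h, hall P Q hne]

theorem rel_cases (hG : Tight22 G) (P R : Sylow 3 G) (hne : R ≠ P) :
    rel P R = 3 ∨ rel P R = 9 := by
  classical
  obtain ⟨j, hj⟩ := rel_pow P R
  have hsub : orbit (P : Subgroup G) R ⊆ {x | x ≠ P} := by
    rintro x ⟨u, rfl⟩ h
    refine hne ?_
    have hu : (u : G) • P = P :=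
      Sylow.smul_eq_iff_mem_normalizer.mpr (Subgroup.le_normalizer u.2)
    have : (u : G) • R = (u : G) • P := h.trans hu.symm
    exact MulAction.injective (u : G) this
  have hle := Set.ncard_le_ncard hsub
  rw [← Nat.card_coe_set_eq, card_orbit, show {x : Sylow 3 G | x ≠ P} = {P}ᶜ from rfl,
    Set.ncard_compl, Set.ncard_singleton, hG.2] at hle
  rw [hj] at hle ⊢
  have hj2 : j < 3 := by
    by_contra hh
    have := Nat.pow_le_pow_right (show 0 < 3 by norm_num) (not_lt.mp hh)
    omega
  interval_cases j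
  · exfalso
    exact hne ((rel_eq_one_iff P R).mp (by simpa using hj))
  · exact Or.inl rfl
  · exact Or.inr rfl

open scoped Classical

variable [Fintype (Sylow 3 G)]

/-- Neighbours. -/
noncomputable def nbr (P : Sylow 3 G) : Finset (Sylow 3 G) :=
  Finset.univ.filter fun R => rel P R = 9

/-- The non-neighbours other than `P`. -/
noncomputable def far (P : Sylow 3 G) : Finset (Sylow 3 G) :=
  Finset.univ.filter fun R => rel P R = 3

/-- The non-neighbours with the same intersection with `P`. -/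
noncomputable def fib (P R : Sylow 3 G) : Finset (Sylow 3 G) :=
  (far P).filter fun x => (P : Subgroup G) ⊓ x = (P : Subgroup G) ⊓ R

omit [IsSimpleGroup G] in
theorem mem_nbr {P R : Sylow 3 G} : R ∈ nbr P ↔ rel P R = 9 := by simp [nbr]

omit [IsSimpleGroup G] in
theorem mem_far {P R : Sylow 3 G} : R ∈ far P ↔ rel P R = 3 := by simp [far]

omit [IsSimpleGroup G] in
theorem mem_fib {P R x : Sylow 3 G} :
    x ∈ fib P R ↔ rel P x = 3 ∧ (P : Subgroup G) ⊓ x = (P : Subgroup G) ⊓ R := by
  simp [fib, mem_far]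

theorem card_nbr_add_far (hG : Tight22 G) (P : Sylow 3 G) :
    (nbr P).card + (far P).card = 21 := by
  have hu : nbr P ∪ far P = Finset.univ.erase P := by
    ext R
    rw [Finset.mem_union, mem_nbr, mem_far, Finset.mem_erase]
    constructor
    · intro h
      refine ⟨fun he => ?_, Finset.mem_univ _⟩
      rw [he, rel_self] at h
      omega
    · intro h
      exact (rel_cases hG P R h.1).symm
  rw [← Finset.card_union_of_disjoint, hu, Finset.card_erase_of_mem (Finset.mem_univ _),
    Finset.card_univ, ← Nat.card_eq_fintype_card, hG.2]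
  exact Finset.disjoint_left.mpr fun R h1 h2 => by rw [mem_nbr] at h1; rw [mem_far] at h2; omega

omit [IsSimpleGroup G] [Fintype (Sylow 3 G)] in
theorem smul_self_of_mem (P : Sylow 3 G) (u : (P : Subgroup G)) : (u : G) • P = P :=
  Sylow.smul_eq_iff_mem_normalizer.mpr (Subgroup.le_normalizer u.2)

omit [IsSimpleGroup G] [Fintype (Sylow 3 G)] in
theorem rel_smul_left (P R : Sylow 3 G) (u : (P : Subgroup G)) :
    rel P (u • R) = rel P R := by
  exact (congrArg (fun X => rel X ((u : G) • R)) (smul_self_of_mem P u).symm).trans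
    (rel_smul (u : G) P R)

omit [IsSimpleGroup G] in
theorem nine_dvd_nbr (P : Sylow 3 G) : 9 ∣ (nbr P).card := by
  refine dvd_card (H := (P : Subgroup G)) _ 9 (fun u x hx => ?_) fun x hx => ?_
  · rw [mem_nbr] at hx ⊢; rw [rel_smul_left]; exact hx
  · rw [card_orbit, mem_nbr.mp hx]

omit [IsSimpleGroup G] in
theorem three_dvd_far (P : Sylow 3 G) : 3 ∣ (far P).card := by
  refine dvd_card (H := (P : Subgroup G)) _ 3 (fun u x hx => ?_) fun x hx => ?_
  · rw [mem_far] at hx ⊢; rw [rel_smul_left]; exact hx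
  · rw [card_orbit, mem_far.mp hx]

omit [IsSimpleGroup G] in
theorem smul_mem_nbr {g : G} {P R : Sylow 3 G} : g • R ∈ nbr (g • P) ↔ R ∈ nbr P := by
  rw [mem_nbr, mem_nbr, rel_smul]

omit [IsSimpleGroup G] in
theorem self_notMem_nbr (P : Sylow 3 G) : P ∉ nbr P := by
  rw [mem_nbr, rel_self]; omega

omit [IsSimpleGroup G] in
theorem inf_smul_of_rel {P R : Sylow 3 G} (h : rel P R = 3) (u : (P : Subgroup G)) :
    (P : Subgroup G) ⊓ (u • R : Sylow 3 G) = (P : Subgroup G) ⊓ R := by
  have h1 := coe_smul_inf (u : G) P R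
  rw [smul_self_of_mem] at h1
  refine h1.trans (Coprime.conj_smul_eq_self_of_mem ?_)
  have hn : (((P : Subgroup G) ⊓ R).subgroupOf P).Normal := by
    refine PGroup.normal_of_index_eq P.2 ?_
    show ((P : Subgroup G) ⊓ R).relIndex P = 3
    rw [Subgroup.inf_relIndex_left]; exact h
  exact (Subgroup.normal_subgroupOf_iff_le_normalizer inf_le_left).mp hn u.2

/-- When `|P| ≠ 3` the neighbours form one orbit of size 9. -/
theorem card_nbr (hG : Tight22 G) (h3 : ∀ P : Sylow 3 G, Nat.card P ≠ 3) (P : Sylow 3 G) :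
    (nbr P).card = 9 ∧ (far P).card = 12 := by
  have hsum := card_nbr_add_far hG P
  obtain ⟨a, ha⟩ := nine_dvd_nbr P
  obtain ⟨b, hb⟩ := three_dvd_far P
  have hne : (nbr P).Nonempty := by
    by_contra he
    apply h3 P
    refine card_eq_three_of_all hG (fun Q R hQR => (rel_cases hG Q R hQR).resolve_right fun h9 => ?_) P
    obtain ⟨g, hg⟩ := MulAction.exists_smul_eq G Q P
    refine he ⟨g • R, ?_⟩
    rw [← hg, smul_mem_nbr]
    exact mem_nbr.mpr h9
  have ha1 : 1 ≤ a := by
    rcases Nat.eq_zero_or_pos a with rfl | h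
    · rw [mul_zero, Finset.card_eq_zero] at ha
      exact absurd hne (by rw [ha]; simp)
    · exact h
  by_cases ha2 : a = 1
  · subst ha2
    omega
  exfalso
  have hfar : (far P).card = 3 := by omega
  obtain ⟨R, hR⟩ := Finset.card_pos.mp (by omega : 0 < (far P).card)
  rw [mem_far] at hR
  refine h3 P (card_eq_three_of_normalized hG hR fun g hg => ?_)
  have hgP : g • P = P := Sylow.smul_eq_iff_mem_normalizer.mpr hg
  have hgR : g • R ∈ far P := by
    rw [mem_far, ← hgP, rel_smul]; exact hR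
  have horb : (orbit (P : Subgroup G) R).toFinset = far P := by
    refine Finset.eq_of_subset_of_card_le (fun x hx => ?_) ?_
    · rw [Set.mem_toFinset] at hx
      obtain ⟨u, rfl⟩ := hx
      rw [mem_far, rel_smul_left]; exact hR
    · rw [hfar, Set.toFinset_card, ← Nat.card_eq_fintype_card, card_orbit, hR]
  rw [← horb, Set.mem_toFinset] at hgR
  obtain ⟨u, hu⟩ := hgR
  have h1 := inf_smul_of_rel hR u
  rw [show (u • R : Sylow 3 G) = g • R from hu] at h1
  have h2 := coe_smul_inf g P R
  rw [hgP, h1] at h2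
  rw [Subgroup.mem_normalizer_iff]
  intro x
  conv_rhs => rw [h2]
  rw [Coprime.mem_conj_smul_iff]
  simp [mul_assoc]

omit [IsSimpleGroup G] in
theorem self_mem_fib {P R : Sylow 3 G} (h : rel P R = 3) : R ∈ fib P R := mem_fib.mpr ⟨h, rfl⟩

omit [IsSimpleGroup G] in
theorem smul_mem_fib {P R x : Sylow 3 G} {g : G} (hg : g • P = P) :
    g • x ∈ fib P (g • R) ↔ x ∈ fib P R := by
  rw [mem_fib, mem_fib]
  have e1 : rel P (g • x) = rel P x :=
    (congrArg (fun X => rel X (g • x)) hg.symm).trans (rel_smul g P x)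
  have e2 : ∀ z : Sylow 3 G, (P : Subgroup G) ⊓ (g • z : Sylow 3 G) =
      MulAut.conj g • ((P : Subgroup G) ⊓ z) := fun z => by
    have := coe_smul_inf g P z
    rwa [hg] at this
  rw [e1, e2, e2]
  exact and_congr_right fun _ => ⟨fun h => smul_left_cancel _ h, fun h => by rw [h]⟩

omit [IsSimpleGroup G] in
theorem card_fib_smul {P R : Sylow 3 G} {g : G} (hg : g • P = P) :
    (fib P (g • R)).card = (fib P R).card := by
  have : (fib P R).image (g • ·) = fib P (g • R) := by
    ext x
    rw [Finset.mem_image]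
    constructor
    · rintro ⟨y, hy, rfl⟩; exact (smul_mem_fib hg).mpr hy
    · intro hx
      refine ⟨g⁻¹ • x, (smul_mem_fib hg).mp ?_, smul_inv_smul g x⟩
      rwa [smul_inv_smul]
  rw [← this, Finset.card_image_of_injective _ (MulAction.injective g)]

omit [IsSimpleGroup G] in
theorem three_dvd_fib (P R : Sylow 3 G) : 3 ∣ (fib P R).card := by
  refine dvd_card (H := (P : Subgroup G)) _ 3 (fun u x hx => ?_) fun x hx => ?_
  · rw [mem_fib] at hx ⊢
    exact ⟨(rel_smul_left P x u).trans hx.1, (inf_smul_of_rel hx.1 u).trans hx.2⟩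
  · rw [card_orbit, (mem_fib.mp hx).1]

theorem card_fib (hG : Tight22 G) (h3 : ∀ P : Sylow 3 G, Nat.card P ≠ 3) (P : Sylow 3 G) :
    (∀ R ∈ far P, (fib P R).card = 3) ∨
    ∃ R R' : Sylow 3 G, R ∈ far P ∧ (P : Subgroup G) ⊓ R ≠ (P : Subgroup G) ⊓ R' ∧
      (fib P R).card = 6 ∧ (fib P R').card = 6 ∧ fib P R ∪ fib P R' = far P := by
  by_cases hall : ∀ R ∈ far P, (fib P R).card = 3
  · exact Or.inl hall
  right
  push Not at hall
  obtain ⟨R, hR, hR3⟩ := hall
  have hrel := mem_far.mp hR
  obtain ⟨g, hg, hgD⟩ : ∃ g ∈ Subgroup.normalizer ((P : Subgroup G) : Set G),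
      g ∉ Subgroup.normalizer (((P : Subgroup G) ⊓ R : Subgroup G) : Set G) :=
    SetLike.not_le_iff_exists.mp fun hle => h3 P (card_eq_three_of_normalized hG hrel hle)
  have hgP : g • P = P := Sylow.smul_eq_iff_mem_normalizer.mpr hg
  have hne : (P : Subgroup G) ⊓ R ≠ (P : Subgroup G) ⊓ (g • R : Sylow 3 G) := by
    intro he
    apply hgD
    have h2 := coe_smul_inf g P R
    rw [hgP, ← he] at h2
    rw [Subgroup.mem_normalizer_iff]
    intro x
    conv_rhs => rw [h2]
    rw [Coprime.mem_conj_smul_iff]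
    simp [mul_assoc]
  have hdis : Disjoint (fib P R) (fib P (g • R)) :=
    Finset.disjoint_left.mpr fun x h1 h2 => hne ((mem_fib.mp h1).2.symm.trans (mem_fib.mp h2).2)
  have hsub : fib P R ∪ fib P (g • R) ⊆ far P :=
    Finset.union_subset (Finset.filter_subset _ _) (Finset.filter_subset _ _)
  have hle := Finset.card_le_card hsub
  rw [Finset.card_union_of_disjoint hdis, card_fib_smul hgP, (card_nbr hG h3 P).2] at hle
  have hpos : 0 < (fib P R).card := Finset.card_pos.mpr ⟨R, self_mem_fib hrel⟩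
  have hd := three_dvd_fib P R
  have h6 : (fib P R).card = 6 := by omega
  refine ⟨R, g • R, hR, hne, h6, (card_fib_smul hgP).trans h6,
    Finset.eq_of_subset_of_card_le hsub ?_⟩
  rw [(card_nbr hG h3 P).2, Finset.card_union_of_disjoint hdis, card_fib_smul hgP, h6]

/-- Double counting the edges between `nbr P` and `far P`. -/
theorem sum_inter (P : Sylow 3 G) :
    ∑ R ∈ far P, (nbr R ∩ nbr P).card = ∑ c ∈ nbr P, (far P ∩ nbr c).card := by
  have h1 : ∀ R, (nbr R ∩ nbr P).card = ∑ c ∈ nbr P, if rel c R = 9 then 1 else 0 := by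
    intro R
    rw [← Finset.card_filter]
    congr 1
    ext c
    rw [Finset.mem_inter, Finset.mem_filter, mem_nbr, mem_nbr, rel_comm c R]
    exact and_comm
  have h2 : ∀ c, (far P ∩ nbr c).card = ∑ R ∈ far P, if rel c R = 9 then 1 else 0 := by
    intro c
    rw [← Finset.card_filter]
    congr 1
    ext R
    rw [Finset.mem_inter, Finset.mem_filter, mem_nbr]
  simp only [h1, h2]
  exact Finset.sum_comm

theorem far_inter_le (hG : Tight22 G) (h3 : ∀ P : Sylow 3 G, Nat.card P ≠ 3) {P c : Sylow 3 G}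
    (hc : c ∈ nbr P) : (far P ∩ nbr c).card + (nbr P ∩ nbr c).card ≤ 8 := by
  rw [← Finset.card_union_of_disjoint (Finset.disjoint_left.mpr fun x h1 h2 => by
    have h1' := mem_far.mp (Finset.mem_inter.mp h1).1
    have h2' := mem_nbr.mp (Finset.mem_inter.mp h2).1
    omega)]
  have hP : P ∈ nbr c := mem_nbr.mpr ((rel_comm c P).trans (mem_nbr.mp hc))
  have h := Finset.card_erase_of_mem hP
  rw [(card_nbr hG h3 c).1] at h
  refine le_of_le_of_eq (Finset.card_le_card ?_) h
  intro x hx
  rw [Finset.mem_erase]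
  rw [Finset.mem_union, Finset.mem_inter, Finset.mem_inter, mem_far, mem_nbr (P := P)] at hx
  refine ⟨fun he => ?_, hx.elim (·.2) (·.2)⟩
  rw [he, rel_self] at hx
  rcases hx with h | h <;> omega

/-- The subgroups containing `P ∩ R`. -/
theorem inf_le_iff (hG : Tight22 G) {P R x : Sylow 3 G} (h : rel P R = 3) :
    (P : Subgroup G) ⊓ R ≤ x ↔ x = P ∨ x ∈ fib P R := by
  constructor
  · intro hle
    rcases eq_or_ne x P with he | hne
    · exact Or.inl he
    right
    have hle' : (P : Subgroup G) ⊓ R ≤ (P : Subgroup G) ⊓ x := le_inf inf_le_left hle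
    have hcard := Subgroup.card_dvd_of_le hle'
    have h1 := inf_card_mul_rel P R
    have h2 := inf_card_mul_rel P x
    rw [h] at h1
    have hpos : 0 < Nat.card ↥((P : Subgroup G) ⊓ R) := Nat.card_pos
    have hge := Nat.le_of_dvd Nat.card_pos hcard
    have hx : rel P x = 3 := by
      rcases rel_cases hG P x hne with h' | h'
      · exact h'
      · exfalso; rw [h'] at h2; omega
    rw [hx] at h2
    exact mem_fib.mpr ⟨hx, (Subgroup.eq_of_le_of_card_ge hle' (by omega)).symm⟩
  · rintro (rfl | hx)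
    · exact inf_le_left
    · exact (mem_fib.mp hx).2.symm.le.trans inf_le_right

/-- Orbits of `P ∩ R` away from the subgroups containing it have cardinality divisible by 3. -/
theorem three_dvd_orbit {D : Subgroup G} (hD : IsPGroup 3 D) {x : Sylow 3 G}
    (hx : ¬ D ≤ (x : Subgroup G)) : 3 ∣ Nat.card (orbit D x) := by
  rw [Nat.card_coe_set_eq, ← index_stabilizer, stabilizer_sub D hD]
  obtain ⟨j, hj⟩ := hD.index ((x : Subgroup G).subgroupOf D)
  rw [hj]
  refine dvd_pow_self 3 fun h0 => hx ?_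
  rw [h0, pow_zero] at hj
  exact Subgroup.relIndex_eq_one.mp hj

theorem orbit_eq_of_not_le {P R x : Sylow 3 G} (hPx : rel P x = 3)
    (hnot : ¬ ((P : Subgroup G) ⊓ R ≤ x)) (u : (P : Subgroup G)) :
    ∃ d ∈ (P : Subgroup G) ⊓ R, d • x = (u : G) • x := by
  have hDp : IsPGroup 3 ↥((P : Subgroup G) ⊓ R) := P.2.to_le inf_le_left
  have hsub : orbit ↥((P : Subgroup G) ⊓ R) x ⊆ orbit (P : Subgroup G) x := by
    rintro _ ⟨d, rfl⟩
    exact ⟨⟨d, d.2.1⟩, rfl⟩
  have hdvd := three_dvd_orbit hDp hnot
  have hpos : 0 < Nat.card (orbit ↥((P : Subgroup G) ⊓ R) x) := by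
    have : Nonempty (orbit ↥((P : Subgroup G) ⊓ R) x) := ⟨⟨x, mem_orbit_self x⟩⟩
    exact Nat.card_pos
  have heq : orbit ↥((P : Subgroup G) ⊓ R) x = orbit (P : Subgroup G) x := by
    refine Set.eq_of_subset_of_ncard_le hsub ?_
    rw [← Nat.card_coe_set_eq, ← Nat.card_coe_set_eq, card_orbit, hPx]
    exact Nat.le_of_dvd hpos hdvd
  obtain ⟨d, hd⟩ := heq.symm.le (mem_orbit x u)
  exact ⟨d, d.2, hd⟩

theorem inter_smul_mem {P R c : Sylow 3 G} {d : G} (hd : d ∈ (P : Subgroup G) ⊓ R)
    (hc : c ∈ nbr R ∩ nbr P) : d • c ∈ nbr R ∩ nbr P := by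
  rw [Finset.mem_inter, mem_nbr, mem_nbr] at hc ⊢
  constructor
  · exact (rel_smul_left R c ⟨d, hd.2⟩).trans hc.1
  · exact (rel_smul_left P c ⟨d, hd.1⟩).trans hc.2

/-- The part of `nbr R` outside `nbr P` is invariant under `P`. -/
theorem sdiff_subset (hG : Tight22 G) {P R : Sylow 3 G} (h : rel P R = 3) (u : (P : Subgroup G)) :
    nbr R \ nbr P ⊆ nbr ((u : G) • R) := by
  intro x hx
  rw [Finset.mem_sdiff] at hx
  have hxR := mem_nbr.mp hx.1
  have hxne : x ≠ P := fun he => by
    rw [he, rel_comm, h] at hxR; omega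
  have hPx : rel P x = 3 := (rel_cases hG P x hxne).resolve_right fun h9 => hx.2 (mem_nbr.mpr h9)
  have hnot : ¬ ((P : Subgroup G) ⊓ R ≤ x) := by
    intro hle
    have h1 : (R : Subgroup G) ⊓ P ≤ x := by rwa [inf_comm]
    rcases (inf_le_iff hG ((rel_comm R P).trans h)).mp h1 with he | hmem
    · rw [he, rel_self] at hxR; omega
    · have := (mem_fib.mp hmem).1; omega
  obtain ⟨d, hd, hdx⟩ := orbit_eq_of_not_le hPx hnot u⁻¹
  rw [mem_nbr]
  have e : x = (u : G) • d • x := by
    rw [hdx]
    simp [← mul_smul]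
  rw [e, rel_smul]
  exact (rel_smul_left R x ⟨d, hd.2⟩).trans hxR

/-- Case of singleton fibres. -/
theorem six_le_inter (hG : Tight22 G) (h3 : ∀ P : Sylow 3 G, Nat.card P ≠ 3) {P R : Sylow 3 G}
    (h : rel P R = 3) (hfib : (fib P R).card = 3) : 6 ≤ (nbr R ∩ nbr P).card := by
  -- divisibility by 3
  have hd3 : 3 ∣ (nbr R ∩ nbr P).card := by
    refine dvd_card (H := ↥((P : Subgroup G) ⊓ R)) _ 3 (fun d x hx => inter_smul_mem d.2 hx)
      fun x hx => three_dvd_orbit (P.2.to_le inf_le_left) fun hle => ?_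
    rw [Finset.mem_inter, mem_nbr, mem_nbr] at hx
    rcases (inf_le_iff hG h).mp hle with he | hmem
    · rw [he, rel_self] at hx; omega
    · have := (mem_fib.mp hmem).1; omega
  -- an element of `R` moving `P`
  obtain ⟨q, hq, hqP⟩ : ∃ q ∈ (R : Subgroup G), q ∉ (P : Subgroup G) := by
    by_contra hc
    push Not at hc
    have := (rel_eq_one_iff P R).mp
    have he : R = P := Sylow.ext (R.3 P.2 hc).symm
    rw [he, rel_self] at h; omega
  have hrelRP : rel R P = 3 := (rel_comm R P).trans h
  set Q : Sylow 3 G := q • P with hQ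
  have hQne : Q ≠ P := by
    intro he
    apply hqP
    have hn := Sylow.smul_eq_iff_mem_normalizer.mp he
    exact ((IsPGroup.inf_normalizer_sylow R.2 P).le ⟨hq, hn⟩).2
  have hDQ : (P : Subgroup G) ⊓ R ≤ Q := by
    have h1 := inf_smul_of_rel hrelRP ⟨q, hq⟩
    rw [show ((⟨q, hq⟩ : (R : Subgroup G)) • P : Sylow 3 G) = Q from rfl] at h1
    rw [inf_comm, ← h1]
    exact inf_le_right
  have hQfib := ((inf_le_iff hG h).mp hDQ).resolve_left hQne
  have horb : (orbit (P : Subgroup G) R).toFinset = fib P R := by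
    refine Finset.eq_of_subset_of_card_le (fun x hx => ?_) ?_
    · rw [Set.mem_toFinset] at hx
      obtain ⟨u, rfl⟩ := hx
      exact mem_fib.mpr ⟨(rel_smul_left P R u).trans h, inf_smul_of_rel h u⟩
    · rw [hfib, Set.toFinset_card, ← Nat.card_eq_fintype_card, card_orbit, h]
  rw [← horb, Set.mem_toFinset] at hQfib
  obtain ⟨u, hu⟩ := hQfib
  have h1 : nbr R \ nbr P ⊆ nbr Q := by
    rw [← show (u : G) • R = Q from hu]; exact sdiff_subset hG h u
  have h2 : nbr P \ nbr R ⊆ nbr Q := sdiff_subset hG hrelRP ⟨q, hq⟩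
  have hle := Finset.card_le_card (Finset.union_subset h1 h2)
  rw [Finset.card_union_of_disjoint (Finset.disjoint_left.mpr fun x ha hb =>
    (Finset.mem_sdiff.mp ha).2 (Finset.mem_sdiff.mp hb).1), (card_nbr hG h3 Q).1] at hle
  have e1 := Finset.card_sdiff_add_card_inter (nbr R) (nbr P)
  have e2 := Finset.card_sdiff_add_card_inter (nbr P) (nbr R)
  rw [(card_nbr hG h3 R).1] at e1
  rw [(card_nbr hG h3 P).1, Finset.inter_comm] at e2
  omega

/-- The fibres are singletons of orbits. -/
theorem card_fib_eq_three (hG : Tight22 G) (h3 : ∀ P : Sylow 3 G, Nat.card P ≠ 3)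
    (P : Sylow 3 G) : ∀ R ∈ far P, (fib P R).card = 3 := by
  rcases card_fib hG h3 P with h | ⟨R, R', hR, hne, h6, h6', hunion⟩
  · exact h
  exfalso
  have hrel := mem_far.mp hR
  -- seven divides the order of the normalizer of `P`
  set D := (P : Subgroup G) ⊓ R with hD
  set H := Subgroup.normalizer (D : Set G) with hH
  have horb : orbit H P = {x : Sylow 3 G | D ≤ (x : Subgroup G)} := by
    ext x
    constructor
    · rintro ⟨⟨g, hg⟩, rfl⟩
      show D ≤ ((g • P : Sylow 3 G) : Subgroup G)
      rw [← Coprime.conj_smul_eq_self_of_mem hg, Sylow.coe_subgroup_smul]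
      exact Subgroup.pointwise_smul_le_pointwise_smul_iff.mpr inf_le_left
    · intro hx
      have hle : ∀ y : Sylow 3 G, D ≤ (y : Subgroup G) → (y : Subgroup G) ≤ H := by
        intro y hy
        refine (Subgroup.normal_subgroupOf_iff_le_normalizer hy).mp ?_
        refine PGroup.normal_of_index_eq y.2 ?_
        show D.relIndex y = 3
        have hc := inf_card_mul_rel P R
        rw [hrel, card_sylow P y] at hc
        have e := Subgroup.relIndex_mul_relIndex (H := ⊥) (K := D) (L := (y : Subgroup G)) bot_le hy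
        rw [Subgroup.relIndex_bot_left, Subgroup.relIndex_bot_left] at e
        exact Nat.eq_of_mul_eq_mul_left Nat.card_pos (e.trans hc.symm)
      obtain ⟨g, hg⟩ := MulAction.exists_smul_eq H (P.subtype (hle P inf_le_left))
        (x.subtype (hle x hx))
      rw [Sylow.smul_subtype] at hg
      exact ⟨g, Sylow.subtype_injective hg⟩
  have hcard7 : Nat.card (orbit H P) = 7 := by
    have hS : {x : Sylow 3 G | D ≤ (x : Subgroup G)} = ↑(insert P (fib P R)) := by
      ext x; simp [inf_le_iff hG hrel, D]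
    rw [horb, hS, Nat.card_coe_set_eq, Set.ncard_coe_finset, Finset.card_insert_of_notMem
      (fun hm => by have := (mem_fib.mp hm).1; rw [rel_self] at this; omega), h6]
  have hNdvd : 7 ∣ Nat.card (Subgroup.normalizer ((P : Subgroup G) : Set G)) := by
    have h1 : 7 ∣ Nat.card G := by
      rw [← hcard7, Nat.card_coe_set_eq, ← index_stabilizer]
      exact (stabilizer H P).index_dvd_card.trans H.card_subgroup_dvd_card
    have h2 := Subgroup.index_mul_card (Subgroup.normalizer ((P : Subgroup G) : Set G))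
    rw [index_normalizer hG P] at h2
    rw [← h2] at h1
    exact (Nat.Coprime.dvd_mul_left (by norm_num)).mp h1
  obtain ⟨⟨y, hyN⟩, hy⟩ := exists_prime_orderOf_dvd_card' (hp := ⟨by norm_num⟩) 7 hNdvd
  rw [Subgroup.orderOf_mk] at hy
  have hyP : y • P = P := Sylow.smul_eq_iff_mem_normalizer.mpr hyN
  have hy7 : y ^ 7 = 1 := by rw [← hy]; exact pow_orderOf_eq_one y
  set Z := Subgroup.zpowers y
  have hZcard : ∀ x : Sylow 3 G, Nat.card (orbit Z x) ∣ 7 := by
    intro x
    rw [Nat.card_coe_set_eq, ← index_stabilizer, ← hy, ← Nat.card_zpowers]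
    exact Subgroup.index_dvd_card _
  have hfix : ∀ x : Sylow 3 G, Nat.card (orbit Z x) = 1 → y • x = x := by
    intro x hx
    have hs := (Nat.card_eq_one_iff_unique.mp hx).1
    exact congrArg Subtype.val (Subsingleton.elim
      (⟨y • x, ⟨⟨y, Subgroup.mem_zpowers y⟩, rfl⟩⟩ : orbit Z x) ⟨x, mem_orbit_self x⟩)
  -- `y` fixes both fibres pointwise
  have hkey : ∀ S : Sylow 3 G, (fib P S).card = 6 →
      (∀ x ∈ far P, x ∈ fib P R ∨ x ∈ fib P R') → ∀ x ∈ fib P S, y • x = x := by
    intro S hS hcov x hx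
    have hmap : ∀ z : G, z • P = P → ∀ x ∈ fib P S, z • x ∈ fib P (z • S) :=
      fun z hz x hx => (smul_mem_fib hz).mpr hx
    -- the fibre is invariant
    have hDfix : (P : Subgroup G) ⊓ (y • S : Sylow 3 G) = (P : Subgroup G) ⊓ S := by
      have hSf : rel P S = 3 := by
        obtain ⟨z, hz⟩ := Finset.card_pos.mp (by omega : 0 < (fib P S).card)
        have h1 := inf_card_mul_rel P z
        have h2 := inf_card_mul_rel P S
        rw [(mem_fib.mp hz).1, (mem_fib.mp hz).2] at h1
        exact Nat.eq_of_mul_eq_mul_left Nat.card_pos (h2.trans h1.symm)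
      have hpow : ∀ n : ℕ, (y ^ n) • P = P := fun n => by
        induction n with
        | zero => simp
        | succ n ih => rw [pow_succ, mul_smul, hyP, ih]
      have hin : ∀ n : ℕ, (P : Subgroup G) ⊓ ((y ^ n) • S : Sylow 3 G) = (P : Subgroup G) ⊓ R ∨
          (P : Subgroup G) ⊓ ((y ^ n) • S : Sylow 3 G) = (P : Subgroup G) ⊓ R' := by
        intro n
        have hm : (y ^ n) • S ∈ far P := by
          rw [mem_far]
          exact (congrArg (fun X => rel X ((y ^ n) • S)) (hpow n).symm).trans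
            ((rel_smul _ P S).trans hSf)
        exact (hcov _ hm).imp (fun h => (mem_fib.mp h).2) (fun h => (mem_fib.mp h).2)
      have hstep : ∀ n : ℕ, (P : Subgroup G) ⊓ ((y ^ (n + 1)) • S : Sylow 3 G) =
          MulAut.conj y • ((P : Subgroup G) ⊓ ((y ^ n) • S : Sylow 3 G)) := by
        intro n
        have := coe_smul_inf y P ((y ^ n) • S)
        rwa [hyP, ← mul_smul, ← pow_succ'] at this
      by_contra hne'
      have e0 := hstep 0
      have e1 := hstep 1
      have e2 := hstep 2
      have e3 := hstep 3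
      have e4 := hstep 4
      have e5 := hstep 5
      have e6 := hstep 6
      simp only [zero_add, pow_zero, pow_one, one_smul, Nat.reduceAdd, hy7] at e0 e1 e2 e3 e4 e5 e6
      have hd : (P : Subgroup G) ⊓ ((y ^ 2) • S : Sylow 3 G) ≠
          (P : Subgroup G) ⊓ (y • S : Sylow 3 G) := by
        intro he
        rw [e1] at he
        conv_rhs at he => rw [e0]
        exact hne' (smul_left_cancel _ he)
      have a := hin 0
      have b := hin 1
      have c := hin 2
      simp only [pow_zero, pow_one, one_smul] at a b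
      have h20 : (P : Subgroup G) ⊓ ((y ^ 2) • S : Sylow 3 G) = (P : Subgroup G) ⊓ S := by
        rcases a with a | a <;> rcases b with b | b <;> rcases c with c | c <;>
          first
            | exact c.trans a.symm
            | exact absurd (b.trans a.symm) hne'
            | exact absurd (c.trans b.symm) hd
      rw [h20, ← e0] at e2
      rw [e2, ← e1, h20] at e3
      rw [e3, ← e0] at e4
      rw [e4, ← e1, h20] at e5
      rw [e5, ← e0] at e6
      exact hne' e6.symm
    have hinv : ∀ z ∈ fib P S, y • z ∈ fib P S := by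
      intro z hz
      have := hmap y hyP z hz
      rw [mem_fib] at this ⊢
      exact ⟨this.1, this.2.trans hDfix⟩
    have hinv' : ∀ h : Z, ∀ z ∈ fib P S, h • z ∈ fib P S := by
      rintro ⟨w, hw⟩ z hz
      obtain ⟨n, rfl⟩ := (mem_powers_iff_mem_zpowers).mpr hw
      show (y ^ n) • z ∈ fib P S
      clear hw
      induction n generalizing z with
      | zero => simpa using hz
      | succ n ih => rw [pow_succ, mul_smul]; exact ih _ (hinv z hz)
    refine hfix x ?_
    rcases (Nat.dvd_prime (by norm_num)).mp (hZcard x) with h' | h'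
    · exact h'
    exfalso
    have hsub : (orbit Z x).toFinset ⊆ fib P S := by
      intro z hz
      rw [Set.mem_toFinset] at hz
      obtain ⟨w, rfl⟩ := hz
      exact hinv' w x hx
    have := Finset.card_le_card hsub
    rw [Set.toFinset_card, ← Nat.card_eq_fintype_card, h', hS] at this
    omega
  have hcov : ∀ x ∈ far P, x ∈ fib P R ∨ x ∈ fib P R' := fun x hx => by
    rw [← Finset.mem_union, hunion]; exact hx
  have hfarfix : ∀ x ∈ far P, y • x = x := fun x hx =>
    (hcov x hx).elim (hkey R h6 hcov x) (hkey R' h6' hcov x)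
  have hy1 : y ≠ 1 := fun he => by rw [he, orderOf_one] at hy; omega
  obtain ⟨c, hc, hcne⟩ : ∃ c ∈ nbr P, y • c ≠ c := by
    by_contra hall
    push Not at hall
    apply hy1
    refine eq_one_of_fixes hG fun x => ?_
    rcases eq_or_ne x P with rfl | hne
    · exact hyP
    rcases rel_cases hG P x hne with h' | h'
    · exact hfarfix x (mem_far.mpr h')
    · exact hall x (mem_nbr.mpr h')
  set O := (orbit Z c).toFinset with hO
  have hOcard : O.card = 7 := by
    rw [hO, Set.toFinset_card, ← Nat.card_eq_fintype_card]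
    exact ((Nat.dvd_prime (by norm_num)).mp (hZcard c)).resolve_left fun h => hcne (hfix c h)
  have hpowfix : ∀ w : Z, ∀ x : Sylow 3 G, y • x = x → w • x = x := by
    rintro ⟨w, hw⟩ x hx
    have : y ∈ stabilizer G x := hx
    exact (Subgroup.zpowers_le.mpr this) hw
  have hnbrinv : ∀ w : Z, ∀ x z : Sylow 3 G, y • x = x → z ∈ nbr x → w • z ∈ nbr x := by
    intro w x z hx hz
    rw [← hpowfix w x hx]
    exact smul_mem_nbr.mpr hz
  have hOsub : O ⊆ nbr P := by
    intro z hz
    rw [hO, Set.mem_toFinset] at hz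
    obtain ⟨w, rfl⟩ := hz
    exact hnbrinv w P c hyP hc
  have hbig : ∀ x ∈ far P, 7 ≤ (nbr x ∩ nbr P).card := by
    intro x hx
    have hxrel := mem_far.mp hx
    have hfx : (fib P x).card = 6 := by
      rcases hcov x hx with h | h
      · rw [show fib P x = fib P R by unfold fib; rw [(mem_fib.mp h).2]]; exact h6
      · rw [show fib P x = fib P R' by unfold fib; rw [(mem_fib.mp h).2]]; exact h6'
    have hA : 3 ≤ (nbr x ∩ nbr P).card := by
      have hsub : nbr x ∪ nbr P ⊆ (insert P (fib P x))ᶜ := by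
        intro z hz
        rw [Finset.mem_compl, Finset.mem_insert]
        intro hmem
        rw [Finset.mem_union, mem_nbr, mem_nbr] at hz
        rcases hmem with rfl | hmem
        · rw [rel_self, rel_comm x z, hxrel] at hz; omega
        · have hz1 := (mem_fib.mp hmem).1
          rcases hz with hz | hz
          swap
          · omega
          have hle : (x : Subgroup G) ⊓ P ≤ z := by
            rw [inf_comm, ← (mem_fib.mp hmem).2]; exact inf_le_right
          rcases (inf_le_iff hG ((rel_comm x P).trans hxrel)).mp hle with he | hm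
          · rw [he, rel_self] at hz; omega
          · have := (mem_fib.mp hm).1; omega
      have h1 := Finset.card_le_card hsub
      have h2 := Finset.card_union_add_card_inter (nbr x) (nbr P)
      rw [Finset.card_compl, Finset.card_insert_of_notMem (fun hm => by
        have := (mem_fib.mp hm).1; rw [rel_self] at this; omega), hfx,
        ← Nat.card_eq_fintype_card, hG.2] at h1
      rw [(card_nbr hG h3 x).1, (card_nbr hG h3 P).1] at h2
      omega
    obtain ⟨z, hz, hzO⟩ : ∃ z ∈ nbr x ∩ nbr P, z ∈ O := by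
      by_contra hno
      push Not at hno
      have hsub : nbr x ∩ nbr P ⊆ nbr P \ O := fun z hz =>
        Finset.mem_sdiff.mpr ⟨(Finset.mem_inter.mp hz).2, hno z hz⟩
      have := Finset.card_le_card hsub
      rw [Finset.card_sdiff_of_subset hOsub, (card_nbr hG h3 P).1, hOcard] at this
      omega
    rw [← hOcard]
    refine Finset.card_le_card fun z' hz' => Finset.mem_inter.mpr ⟨?_, hOsub hz'⟩
    rw [hO, Set.mem_toFinset] at hz' hzO
    rw [← orbit_eq_iff.mpr hzO] at hz'
    obtain ⟨w, rfl⟩ := hz'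
    exact hnbrinv w x z (hfarfix x hx) (Finset.mem_inter.mp hz).1
  have h1 : ∑ x ∈ far P, 7 ≤ ∑ x ∈ far P, (nbr x ∩ nbr P).card := Finset.sum_le_sum hbig
  rw [sum_inter] at h1
  have h2 : ∑ c ∈ nbr P, (far P ∩ nbr c).card ≤ ∑ c ∈ nbr P, 8 :=
    Finset.sum_le_sum fun c hc => (Nat.le_add_right _ _).trans (far_inter_le hG h3 hc)
  rw [Finset.sum_const, smul_eq_mul, (card_nbr hG h3 P).2] at h1
  rw [Finset.sum_const, smul_eq_mul, (card_nbr hG h3 P).1] at h2
  omega

theorem inter_data (hG : Tight22 G) (h3 : ∀ P : Sylow 3 G, Nat.card P ≠ 3) (P : Sylow 3 G) :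
    (∀ R ∈ far P, (nbr R ∩ nbr P).card = 6) ∧ ∀ c ∈ nbr P, (nbr P ∩ nbr c).card = 0 := by
  have hge : ∀ R ∈ far P, 6 ≤ (nbr R ∩ nbr P).card := fun R hR =>
    six_le_inter hG h3 (mem_far.mp hR) (card_fib_eq_three hG h3 P R hR)
  have h1 : ∑ x ∈ far P, 6 ≤ ∑ x ∈ far P, (nbr x ∩ nbr P).card := Finset.sum_le_sum hge
  have h2 : ∑ c ∈ nbr P, ((far P ∩ nbr c).card + (nbr P ∩ nbr c).card) ≤ ∑ c ∈ nbr P, 8 :=
    Finset.sum_le_sum fun c hc => far_inter_le hG h3 hc
  rw [Finset.sum_add_distrib, ← sum_inter] at h2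
  rw [Finset.sum_const, smul_eq_mul, (card_nbr hG h3 P).2] at h1
  rw [Finset.sum_const, smul_eq_mul, (card_nbr hG h3 P).1] at h2
  constructor
  · have e : ∑ x ∈ far P, 6 = ∑ x ∈ far P, (nbr x ∩ nbr P).card := by
      rw [Finset.sum_const, smul_eq_mul, (card_nbr hG h3 P).2]; omega
    exact fun R hR => ((Finset.sum_eq_sum_iff_of_le hge).mp e R hR).symm
  · have e : ∑ c ∈ nbr P, (nbr P ∩ nbr c).card = 0 := by omega
    exact fun c hc => Finset.sum_eq_zero_iff.mp e c hc

omit [Fintype (Sylow 3 G)] in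
/-- A simple group with 22 Sylow 3-subgroups has Sylow 3-subgroups of order 3. -/
theorem exists_card_eq_three (hG : Tight22 G) : ∀ P : Sylow 3 G, Nat.card P = 3 := by
  have := Fintype.ofFinite (Sylow 3 G)
  intro P
  by_contra hP
  have h3 : ∀ Q : Sylow 3 G, Nat.card Q ≠ 3 := fun Q => by rwa [card_sylow Q P]
  obtain ⟨R, hR⟩ : (far P).Nonempty := Finset.card_pos.mp (by rw [(card_nbr hG h3 P).2]; omega)
  have hRP := (inter_data hG h3 P).1 R hR
  obtain ⟨y, hy⟩ : (nbr R \ nbr P).Nonempty := by
    have e := Finset.card_sdiff_add_card_inter (nbr R) (nbr P)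
    rw [(card_nbr hG h3 R).1, hRP] at e
    exact Finset.card_pos.mp (by omega)
  rw [Finset.mem_sdiff] at hy
  have hyne : y ≠ P := fun he => by
    have := mem_nbr.mp hy.1
    rw [he, rel_comm, mem_far.mp hR] at this
    omega
  have hyfar : y ∈ far P := mem_far.mpr
    ((rel_cases hG P y hyne).resolve_right fun h => hy.2 (mem_nbr.mpr h))
  have hyP := (inter_data hG h3 P).1 y hyfar
  have h0 := (inter_data hG h3 R).2 y hy.1
  have hsub : (nbr R ∩ nbr P) ∩ (nbr y ∩ nbr P) ⊆ nbr R ∩ nbr y := fun z hz => by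
    simp only [Finset.mem_inter] at hz ⊢
    exact ⟨hz.1.1, hz.2.1⟩
  have h1 := Finset.card_le_card hsub
  have h2 := Finset.card_union_add_card_inter (nbr R ∩ nbr P) (nbr y ∩ nbr P)
  have h4 : (nbr R ∩ nbr P ∪ nbr y ∩ nbr P).card ≤ (nbr P).card :=
    Finset.card_le_card (Finset.union_subset Finset.inter_subset_right Finset.inter_subset_right)
  rw [(card_nbr hG h3 P).1] at h4
  omega

end Cfsg.Agent.TwentyTwo
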